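import Cfsg.Agent.Lib.Invol.BlockColumns
import Cfsg.Agent.Lib.Char.Linear
import Cfsg.Agent.Lib.Char.Orth
import Cfsg.Agent.Lib.Char.Twist
import Cfsg.Agent.Lib.Blk83.PrincipalKernel
import Cfsg.Agent.Lib.BlockPrincipal.Criterion
import Cfsg.Agent.Lib.Blocks.PPart
import Mathlib.GroupTheory.Transfer
import Mathlib.GroupTheory.Complement
import Mathlib.GroupTheory.FiniteAbelian.Duality
import Mathlib.Analysis.Complex.Polynomial.Basic
import Mathlib.RingTheory.RootsOfUnity.EnoughRootsOfUnity
import Mathlib.LinearAlgebra.Trace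
import Mathlib.RingTheory.IntegralDomain

/-!
# Tools for principal 2-blocks with a constant `χ 1 - χ u`

Two-parts, linear characters of elementary abelian groups, normal 2-complements, idempotents of
trace at most one, and inflation through central 2-subgroups.
-/

set_option autoImplicit false
set_option linter.unusedSectionVars false
set_option linter.style.haveILetI false
set_option maxHeartbeats 1000000

open scoped ComplexConjugate

namespace CfsgLib.ConstBlock

open Cfsg CfsgLib.BlockReg CfsgLib.BlockPrincipal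

universe u

variable {G : Type u} [Group G] [Finite G]

/-! ### Elements -/

theorem two_elem_regular_mem {P : Subgroup G} (hP : IsPGroup 2 P) {g : G} (hg : g ∈ P)
    (h : ¬ 2 ∣ orderOf g) : g = 1 := by
  obtain ⟨k, hk⟩ := hP ⟨g, hg⟩
  have h' : g ^ 2 ^ k = 1 := congrArg Subtype.val hk
  obtain ⟨i, -, hi⟩ := (Nat.dvd_prime_pow Nat.prime_two).1 (orderOf_dvd_of_pow_eq_one h')
  rcases i with _ | i
  · exact orderOf_eq_one_iff.1 (by simpa using hi)
  · exact absurd (hi ▸ dvd_pow_self 2 i.succ_ne_zero) h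

omit [Finite G] in
theorem dvd_orderOf_mul_invol {i x : G} (h : Commute i x) (hi : orderOf i = 2)
    (hx : ¬ 2 ∣ orderOf x) : 2 ∣ orderOf (i * x) := by
  rw [h.orderOf_mul_eq_mul_orderOf_of_coprime
    (by rw [hi]; exact Nat.prime_two.coprime_iff_not_dvd.2 hx), hi]
  exact dvd_mul_right _ _

omit [Finite G] in
theorem orderOf_eq_two {i : G} (hi : i ^ 2 = 1) (h : i ≠ 1) : orderOf i = 2 :=
  (Nat.dvd_prime Nat.prime_two).1 (orderOf_dvd_of_pow_eq_one hi) |>.resolve_left
    fun h1 => h (orderOf_eq_one_iff.1 h1)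

omit [Finite G] in
theorem pow_two_pow_eq_one {s : G} (hs : ∃ k : ℕ, orderOf s = 2 ^ k) :
    ∃ j : ℕ, s ^ 2 ^ j = 1 := by
  obtain ⟨k, hk⟩ := hs
  exact ⟨k, hk ▸ pow_orderOf_eq_one s⟩

omit [Finite G] in
/-- An element of odd order equals a power of its square. -/
theorem mem_of_sq_mem {H : Subgroup G} {g : G} (hg : ¬ 2 ∣ orderOf g) (h : g ^ 2 ∈ H) : g ∈ H := by
  obtain ⟨m, hm⟩ := exists_pow_eq_self_of_coprime
    (Nat.prime_two.coprime_iff_not_dvd.2 hg : Nat.Coprime 2 (orderOf g))
  exact hm ▸ H.pow_mem h m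

omit [Finite G] in
/-- An element of odd order inverted by conjugation is killed by any hom invariant under it. -/
theorem eq_one_of_sq_eq_one {g : G} (hg : ¬ 2 ∣ orderOf g) (h : g ^ 2 = 1) : g = 1 :=
  Subgroup.mem_bot.1 (mem_of_sq_mem (H := ⊥) hg (Subgroup.mem_bot.2 h))

/-! ### Elementary abelian groups -/

/-- Linear characters separate the points of a commutative group. -/
theorem exists_hom_ne {A : Type*} [Group A] [Finite A] (hc : ∀ a b : A, a * b = b * a) {a : A}
    (ha : a ≠ 1) : ∃ f : A →* ℂˣ, f a ≠ 1 := by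
  letI : CommGroup A := { (inferInstance : Group A) with mul_comm := hc }
  exact CommGroup.exists_apply_ne_one_of_hasEnoughRootsOfUnity A ℂ ha

/-- Homomorphisms from a group of exponent two take values `±1`. -/
theorem val_sq {A : Type*} [Group A] (hA : ∀ a : A, a ^ 2 = 1) (f : A →* ℂˣ) (a : A) :
    (f a : ℂ) = 1 ∨ (f a : ℂ) = -1 := by
  refine sq_eq_one_iff.1 ?_
  rw [← Units.val_pow_eq_pow_val, ← map_pow, hA, map_one, Units.val_one]

theorem conj_val {A : Type*} [Group A] (hA : ∀ a : A, a ^ 2 = 1) (f : A →* ℂˣ) (a : A) :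
    conj (f a : ℂ) = (f a : ℂ) := by
  rcases val_sq hA f a with h | h <;> simp [h]

theorem sum_hom {A : Type*} [Group A] [Fintype A] (f : A →* ℂˣ) [Decidable (f = 1)] :
    ∑ a, (f a : ℂ) = if f = 1 then (Fintype.card A : ℂ) else 0 := by
  split_ifs with h
  · simp [h]
  · exact sum_hom_units_eq_zero ((Units.coeHom ℂ).comp f)
      fun e => h (MonoidHom.ext fun a => Units.ext (by simpa using DFunLike.congr_fun e a))

/-- The multiplicity of a linear character in the restriction of a character. -/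
theorem exists_nat_mult {χ : G → ℂ} (hχ : IsCharacter G χ) (P : Subgroup G) [Fintype P]
    (f : P →* ℂˣ) :
    ∃ n : ℕ, (Nat.card P : ℂ)⁻¹ * ∑ a : P, χ a * conj (f a : ℂ) = n :=
  CfsgLib.Char.IsCharacter.exists_nat_classInner
    (CfsgLib.CharTwist.isCharacter_comp hχ P.subtype) (CfsgLib.Char.isIrrCharacter_linear f)

/-! ### Normal 2-complements -/

/-- The existence of a normal 2-complement. -/
def HasCompl (G : Type u) [Group G] : Prop :=
  ∃ L : Subgroup G, L.Normal ∧ ¬ 2 ∣ Nat.card L ∧ ∃ k : ℕ, L.index = 2 ^ k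

/-- Burnside: a self-centralising condition on the normaliser gives a normal 2-complement. -/
theorem hasCompl_of_normalizer (P : Sylow 2 G)
    (hN : Subgroup.normalizer ((P : Subgroup G) : Set G) ≤
      Subgroup.centralizer ((P : Subgroup G) : Set G)) : HasCompl G := by
  refine ⟨(MonoidHom.transferSylow P hN).ker, inferInstance,
    MonoidHom.not_dvd_card_ker_transferSylow P hN, ?_⟩
  obtain ⟨k, hk⟩ := P.isPGroup'.exists_card_eq
  exact ⟨k, hk ▸ (MonoidHom.ker_transferSylow_isComplement' P hN).symm.index_eq_card⟩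

/-- With a normal 2-complement, an abelian Sylow subgroup is centralised by its normaliser. -/
theorem HasCompl.centralizes (h : HasCompl G) (P : Sylow 2 G)
    (hPc : ∀ a ∈ (P : Subgroup G), ∀ b ∈ (P : Subgroup G), a * b = b * a) {n : G}
    (hn : ∀ a ∈ (P : Subgroup G), n * a * n⁻¹ ∈ (P : Subgroup G)) :
    n ∈ Subgroup.centralizer ((P : Subgroup G) : Set G) := by
  obtain ⟨L, hLn, hL, k, hk⟩ := h
  haveI := hLn
  haveI : Fact (Nat.Prime 2) := ⟨Nat.prime_two⟩
  have hsur : ∀ g : G, ∃ a ∈ (P : Subgroup G), g * a⁻¹ ∈ L := by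
    intro g
    have htop : L ⊔ (P : Subgroup G) = ⊤ := by
      refine Subgroup.index_eq_one.1 (Nat.eq_one_of_dvd_coprimes ?_
        (Subgroup.index_dvd_of_le le_sup_left) (Subgroup.index_dvd_of_le le_sup_right))
      rw [hk]
      exact Nat.Coprime.pow_left _ (Nat.prime_two.coprime_iff_not_dvd.2 P.not_dvd_index)
    obtain ⟨l, hl, a, ha, rfl⟩ := Subgroup.mem_sup_of_normal_left.1 (htop ▸ Subgroup.mem_top g)
    exact ⟨a, ha, by simpa using hl⟩
  rw [Subgroup.mem_centralizer_iff]
  intro a ha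
  obtain ⟨b, hb, hnb⟩ := hsur n
  have hmk : ∀ g g' : G, g * g'⁻¹ ∈ L → (g : G ⧸ L) = g' := fun g g' h =>
    (QuotientGroup.eq.2 (by simpa [mul_assoc] using hLn.conj_mem _ h g'⁻¹)).symm
  have hnL : n * a * n⁻¹ * a⁻¹ ∈ L := by
    rw [← QuotientGroup.eq_one_iff]
    simp only [QuotientGroup.mk_mul, QuotientGroup.mk_inv, hmk n b hnb]
    simp only [← QuotientGroup.mk_mul, ← QuotientGroup.mk_inv]
    rw [hPc b hb a ha]
    simp
  have hP1 : n * a * n⁻¹ * a⁻¹ ∈ (P : Subgroup G) := Subgroup.mul_mem _ (hn a ha) (inv_mem ha)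
  have hreg := (CfsgLib.Invol.BlockCol.regular_iff_mem L hL hk _).2 hnL
  have := two_elem_regular_mem P.isPGroup' hP1 hreg
  rw [mul_inv_eq_one, mul_inv_eq_iff_eq_mul] at this
  exact this.symm

/-- Elements fixed by the normaliser action are fixed by odd-order elements of it. -/
theorem commute_of_conj_mul {n p z : G} (hnp : n * p * n⁻¹ = p * z) (hnz : Commute n z)
    (hz : z ^ 2 = 1) (hn : ¬ 2 ∣ orderOf n) : Commute n p := by
  have key : ∀ k : ℕ, n ^ k * p * (n ^ k)⁻¹ = p * z ^ k := by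
    intro k
    induction k with
    | zero => simp
    | succ k ih =>
      calc n ^ (k + 1) * p * (n ^ (k + 1))⁻¹ = n * (n ^ k * p * (n ^ k)⁻¹) * n⁻¹ := by
            rw [pow_succ']; group
        _ = (n * p * n⁻¹) * (n * z ^ k * n⁻¹) := by rw [ih]; group
        _ = p * z ^ (k + 1) := by
            rw [hnp, (hnz.pow_right k).eq, mul_inv_cancel_right, mul_assoc, ← pow_succ']
  have h1 := key (orderOf n)
  rw [pow_orderOf_eq_one] at h1
  obtain ⟨m, hm⟩ : ∃ m, orderOf n = 2 * m + 1 := ⟨orderOf n / 2, by omega⟩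
  rw [hm, pow_succ, pow_mul, hz, one_pow, one_mul] at h1
  have hz1 : z = 1 := by simpa using h1.symm
  rw [hz1, mul_one, mul_inv_eq_iff_eq_mul] at hnp
  exact hnp

/-! ### Idempotents of small trace -/

section Linear

variable {V : Type*} [AddCommGroup V] [Module ℂ V] [FiniteDimensional ℂ V]

theorem idem_eq_zero {E : Module.End ℂ V} (hE : IsIdempotentElem E)
    (h : LinearMap.trace ℂ V E = 0) : E = 0 :=
  (LinearMap.IsIdempotentElem.trace_eq_zero_iff hE).1 h

/-- An idempotent of trace one turns a commuting map into a scalar. -/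
theorem idem_scalar {E C : Module.End ℂ V} (hE : IsIdempotentElem E)
    (h : LinearMap.trace ℂ V E = 1) (hC : Commute E C) :
    E * C = LinearMap.trace ℂ V (E * C) • E := by
  have hrank : Module.finrank ℂ (LinearMap.range E) = 1 := by
    have h1 := (LinearMap.IsIdempotentElem.isProj_range E hE).trace
    rw [h] at h1
    exact_mod_cast h1.symm
  obtain ⟨v, hv0, hv⟩ := finrank_eq_one_iff'.1 hrank
  obtain ⟨c, hc⟩ := hv ⟨E (C v.1), LinearMap.mem_range_self E _⟩
  have hc' : E (C v.1) = c • v.1 := (congrArg Subtype.val hc).symm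
  have hEC : E * C = c • E := by
    refine LinearMap.ext fun x => ?_
    obtain ⟨a, ha⟩ := hv ⟨E x, LinearMap.mem_range_self E _⟩
    have ha' : E x = a • v.1 := (congrArg Subtype.val ha).symm
    have h2 : E (C x) = E (C (E x)) := by
      have h3 := LinearMap.congr_fun hC.eq x
      rw [Module.End.mul_apply, Module.End.mul_apply] at h3
      rw [← h3, ← Module.End.mul_apply E E, hE.eq]
    rw [Module.End.mul_apply, LinearMap.smul_apply, h2, ha', map_smul, map_smul, hc', smul_comm]
  rw [hEC, map_smul, h, smul_eq_mul, mul_one]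

end Linear

/-- The averaging projection of a representation on a subgroup. -/
noncomputable def avg {n : ℕ} (ρ : Representation ℂ G (Fin n → ℂ)) (R : Subgroup G) [Fintype R] :
    Module.End ℂ (Fin n → ℂ) :=
  (Nat.card R : ℂ)⁻¹ • ∑ r : R, ρ (r : G)

omit [Finite G] in
theorem avg_idem {n : ℕ} (ρ : Representation ℂ G (Fin n → ℂ)) (R : Subgroup G) [Fintype R] :
    IsIdempotentElem (avg ρ R) := by
  have hR : (Nat.card R : ℂ) ≠ 0 := Nat.cast_ne_zero.2 Nat.card_pos.ne'
  have h : (∑ r : R, ρ (r : G)) * ∑ r : R, ρ (r : G) = (Nat.card R : ℂ) • ∑ r : R, ρ (r : G) := by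
    rw [Finset.sum_mul, Finset.sum_congr rfl (g := fun _ => ∑ r : R, ρ (r : G)), Finset.sum_const,
      Finset.card_univ, Nat.card_eq_fintype_card, Nat.cast_smul_eq_nsmul]
    intro a _
    rw [Finset.mul_sum]
    exact Fintype.sum_equiv (Equiv.mulLeft a) _ _ fun b => by simp [map_mul]
  rw [IsIdempotentElem, avg, smul_mul_smul_comm, h, smul_smul]
  congr 1
  field_simp

omit [Finite G] in
theorem trace_avg_mul {n : ℕ} (ρ : Representation ℂ G (Fin n → ℂ)) (R : Subgroup G) [Fintype R]
    (g : G) : LinearMap.trace ℂ _ (avg ρ R * ρ g) =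
      (Nat.card R : ℂ)⁻¹ * ∑ r : R, ρ.character ((r : G) * g) := by
  rw [avg, smul_mul_assoc, map_smul, Finset.sum_mul, map_sum, smul_eq_mul]
  congr 1
  exact Finset.sum_congr rfl fun r _ => by rw [Representation.character, ← map_mul ρ]

/-! ### Central 2-subgroups -/

/-- Regular elements correspond through a central 2-quotient. -/
theorem regSum_comp_mk [Fintype G] (A : Subgroup G) [A.Normal] [Fintype (G ⧸ A)]
    (hA : A ≤ Subgroup.center G) (hA2 : IsPGroup 2 A) (F : G ⧸ A → ℂ) :
    regSum 2 (fun g => F (QuotientGroup.mk g)) = regSum 2 F := by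
  classical
  refine Finset.sum_bij (fun g _ => (QuotientGroup.mk g : G ⧸ A)) ?_ ?_ ?_ (fun g _ => rfl)
  · intro g hg
    simp only [Finset.mem_filter, Finset.mem_univ, true_and] at hg ⊢
    exact fun h => hg (h.trans (orderOf_map_dvd (QuotientGroup.mk' A) g))
  · intro g hg g' hg' h
    simp only [Finset.mem_filter, Finset.mem_univ, true_and] at hg hg'
    have hz : g⁻¹ * g' ∈ A := QuotientGroup.eq.1 h
    have hcg : Commute g⁻¹ g' := by
      have h1 : Commute g (g⁻¹ * g') := (Subgroup.mem_center_iff.1 (hA hz) g)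
      have h2 : Commute g g' := by simpa using (Commute.refl g).mul_right h1
      exact h2.inv_left
    refine inv_mul_eq_one.1 (two_elem_regular_mem hA2 hz fun h2 => ?_)
    rcases (Nat.prime_two.dvd_lcm).1 (h2.trans hcg.orderOf_mul_dvd_lcm) with h3 | h3
    · exact hg (by rwa [orderOf_inv] at h3)
    · exact hg' h3
  · intro x hx
    simp only [Finset.mem_filter, Finset.mem_univ, true_and] at hx
    obtain ⟨g, rfl⟩ := QuotientGroup.mk_surjective x
    obtain ⟨s, t, hst, hc, ⟨k, hk⟩, ht⟩ := CfsgLib.Blocks.exists_isPPart Nat.prime_two g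
    refine ⟨t, Finset.mem_filter.2 ⟨Finset.mem_univ _, ht⟩, ?_⟩
    have hs : IsPPart 2 (QuotientGroup.mk g : G ⧸ A) (QuotientGroup.mk s) := by
      refine ⟨QuotientGroup.mk t, by rw [← QuotientGroup.mk_mul, hst],
        hc.map (QuotientGroup.mk' A), ?_, fun h => ht (h.trans (orderOf_map_dvd (QuotientGroup.mk' A) t))⟩
      obtain ⟨i, -, hi⟩ := (Nat.dvd_prime_pow Nat.prime_two).1
        (hk ▸ orderOf_map_dvd (QuotientGroup.mk' A) s)
      exact ⟨i, hi⟩
    have := (CfsgLib.Blocks.not_dvd_orderOf_iff Nat.prime_two hs).1 hx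
    rw [← hst, QuotientGroup.mk_mul, this, one_mul]

variable {M : Ideal AlgInt}

/-- Inflation through a central 2-subgroup preserves the principal block. -/
theorem inflIrr_mem [Fact (Nat.Prime 2)] (hM : IsPModular 2 M) (A : Subgroup G) [A.Normal]
    (hA : A ≤ Subgroup.center G) (hA2 : IsPGroup 2 A) (η : IrrCharacter (G ⧸ A))
    (hη : η ∈ principalBlock M (G ⧸ A)) : CfsgLib.Blk83.inflIrr A η ∈ principalBlock M G := by
  classical
  cases nonempty_fintype G
  haveI := Fintype.ofFinite (G ⧸ A)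
  rw [mem_principal_iff hM] at hη ⊢
  rw [show (CfsgLib.Blk83.inflIrr A η : G → ℂ) =
    fun g => (η : G ⧸ A → ℂ) (QuotientGroup.mk g) from rfl, regSum_comp_mk A hA hA2]
  exact hη

/-- A twist by a linear character trivial on the regular elements stays in the principal block. -/
theorem linear_mul_mem [Fact (Nat.Prime 2)] (hM : IsPModular 2 M) (f : G →* ℂˣ)
    (hf : ∀ g : G, ¬ 2 ∣ orderOf g → f g = 1) {χ : IrrCharacter G} (hχ : χ ∈ principalBlock M G) :
    (⟨fun g => (f g : ℂ) * (χ : G → ℂ) g, CfsgLib.Char.IsIrrCharacter.linear_mul χ.2 f⟩ :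
      IrrCharacter G) ∈ principalBlock M G := by
  classical
  cases nonempty_fintype G
  rw [mem_principal_iff hM] at hχ ⊢
  show ¬ MemLocalIdeal M (regSum 2 (fun g => (f g : ℂ) * (χ : G → ℂ) g) /
    ((f 1 : ℂ) * (χ : G → ℂ) 1))
  rw [show regSum 2 (fun g => (f g : ℂ) * (χ : G → ℂ) g) = regSum 2 (χ : G → ℂ) from
    Finset.sum_congr rfl fun g hg => by simp [hf g (Finset.mem_filter.1 hg).2],
    map_one, Units.val_one, one_mul]
  exact hχ

/-- A character of odd degree in which the centraliser sum of a 2-subgroup is a unit. -/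
theorem mem_principal_of_centralized [Fintype G] [Fact (Nat.Prime 2)] (hM : IsPModular 2 M)
    (P : Subgroup G) (hP : IsPGroup 2 P) (χ : IrrCharacter G)
    (hd : ¬ 2 ∣ charDegree (χ : G → ℂ)) [DecidablePred fun x : G => x ∈ Subgroup.centralizer (P : Set G)]
    (h : ¬ MemLocalIdeal M (∑ x ∈ Finset.univ.filter
      (fun x : G => ¬ 2 ∣ orderOf x ∧ x ∈ Subgroup.centralizer (P : Set G)), (χ : G → ℂ) x)) :
    χ ∈ principalBlock M G := by
  rw [mem_principal_iff_of_not_dvd hM χ hd]
  intro h1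
  refine h ((memIdeal_iff_of_sub hM (regSum_sub_centralized hM P hP (χ : G → ℂ)
    (memRing_char hM χ) (fun v _ x => ?_))).1 h1)
  exact (char_conj_invariant χ x (v * x * v⁻¹) (isConj_iff.2 ⟨v, rfl⟩)).symm

end CfsgLib.ConstBlock
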