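import Cfsg.Agent.Lib.ConstBlock.Basic
import Cfsg.Agent.Lib.Blocks.Pairs.Principal

/-!
# The principal block and the centraliser of a 2-subgroup

The coefficients of the principal block idempotent restrict modulo `M`, and every member of the
principal block of the centraliser occurs in the restriction of a member of the principal block.
-/

set_option autoImplicit false
set_option linter.unusedSectionVars false
set_option linter.style.haveILetI false
set_option maxHeartbeats 1000000

open scoped ComplexConjugate

namespace CfsgLib.ConstBlock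

open Cfsg CfsgLib.BlockReg CfsgLib.Blocks CfsgLib.Blocks.Pairs
open scoped Classical

universe u

variable {G : Type u} [Group G] [Finite G] {M : Ideal AlgInt}

/-- The Brauer image of the principal block idempotent is the principal block idempotent. -/
theorem trunc_principal [M.IsMaximal] [Fact (Nat.Prime 2)] [CharP (ResField M) 2]
    (Q : Subgroup G) (hQ : IsPGroup 2 Q) :
    trunc Q (ebar (isPBlock_principalBlock (G := G) (M := M))) =
      eIn (isPBlock_principalBlock (G := Subgroup.centralizer (Q : Set G)) (M := M)) := by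
  have hB := isBlockIdem_ebar (isPBlock_principalBlock (G := G) (M := M))
  have hB1 := aug_ebar_principal (G := G) (M := M)
  obtain ⟨hz, hzi⟩ := trunc_block_idem hB hQ
  set g := eIn (isPBlock_principalBlock (G := Subgroup.centralizer (Q : Set G)) (M := M)) with hgdef
  have hg : IsBlockIdem (Subgroup.centralizer (Q : Set G)) g := isBlockIdem_eIn _
  have hg1 : aug g = 1 := (aug_eIn_eq_one_iff _).2 rfl
  refine eq_of_forall_blocks (H := Subgroup.centralizer (Q : Set G)) fun f hf => ?_
  have hpair : IsPair 2 Q f := ⟨hQ, hf⟩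
  by_cases hf1 : aug f = 1
  · have hfg : f = g := (existsUnique_principal _).unique ⟨hf, hf1⟩ ⟨hg, hg1⟩
    rw [((pairOf_principal_iff hB hB1 hpair).2 hf1).br, hfg, hg.idem]
  · have hne : f ≠ g := fun h => hf1 (h ▸ hg1)
    rw [hg.mul_eq_zero hf hne.symm]
    rcases hf.prim _ hz hzi with h | h
    · exact absurd ((pairOf_principal_iff hB hB1 hpair).1 ⟨hB, hpair, h⟩) hf1
    · exact h

/-- The principal block coefficients of `G` and of `C(Q)` agree on `C(Q)` modulo `M`. -/
theorem blockCoeff_congr_centralizer [Fact (Nat.Prime 2)] (hM : IsPModular 2 M) (Q : Subgroup G)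
    (hQ : IsPGroup 2 Q) (x : Subgroup.centralizer (Q : Set G)) :
    MemLocalIdeal M (blockCoeff (principalBlock M G) (x : G) -
      blockCoeff (principalBlock M (Subgroup.centralizer (Q : Set G))) x) := by
  haveI := hM.2.1
  haveI : CharP (ResField M) 2 := charP_resField hM.1 hM.2.2
  have h := congrArg (fun a => (MonoidAlgebra.coeff a) (x : G)) (trunc_principal (M := M) Q hQ)
  simp only [coeff_trunc, x.2, if_true, coeff_eIn, coeff_ebar] at h
  have h1 : subgroupBlockCoeff (Subgroup.centralizer (Q : Set G))
      (principalBlock M (Subgroup.centralizer (Q : Set G))) (x : G) =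
      blockCoeff (principalBlock M (Subgroup.centralizer (Q : Set G))) x :=
    CfsgLib.Blk83.subgroupBlockCoeff_of_mem _ _ x.2
  rw [← sub_eq_zero, ← map_sub, red_eq_zero, AddSubgroupClass.coe_sub] at h
  simp only [h1] at h
  exact h

/-- Members of the principal block of `C(Q)` are bounded by members of the principal block. -/
theorem exists_mult_le [Fact (Nat.Prime 2)] (hM : IsPModular 2 M) (Q : Subgroup G)
    (hQ : IsPGroup 2 Q) [Fintype (Subgroup.centralizer (Q : Set G))]
    (ψ : IrrCharacter (Subgroup.centralizer (Q : Set G)))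
    (hψ : ψ ∈ principalBlock M (Subgroup.centralizer (Q : Set G))) :
    ∃ χ ∈ principalBlock M G, ∀ (R : Subgroup (Subgroup.centralizer (Q : Set G))) [Fintype R]
      (f : R →* ℂˣ) (a b : ℕ),
      ((Nat.card R : ℂ)⁻¹ * ∑ r : R, (ψ : Subgroup.centralizer (Q : Set G) → ℂ) r *
        conj (f r : ℂ) = a) →
      ((Nat.card R : ℂ)⁻¹ * ∑ r : R, (χ : G → ℂ) ((r : Subgroup.centralizer (Q : Set G)) : G) *
        conj (f r : ℂ) = b) → a ≤ b := by
  cases nonempty_fintype G
  let H : Subgroup G := Subgroup.centralizer (Q : Set G)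
  haveI := Fintype.ofFinite (ConjClasses H)
  have hB : IsPBlock M (principalBlock M H) := ⟨CfsgLib.Char.principalIrr, rfl⟩
  -- the value of the central character of `ψ` at the restricted idempotent is a unit
  have hne : ∑ h : H, blockCoeff (principalBlock M G) (h : G) * (ψ : H → ℂ) h ≠ 0 := by
    intro h0
    have h1 := (sum_blockCoeff_mul_char (principalBlock M H) ψ).1 hψ
    have hcG : ∀ a b : H, IsConj a b →
        blockCoeff (principalBlock M G) (a : G) = blockCoeff (principalBlock M G) (b : G) :=
      fun a b hab => blockCoeff_congr _ (H.subtype.map_isConj hab)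
    have hcH : ∀ a b : H, IsConj a b →
        blockCoeff (principalBlock M H) a = blockCoeff (principalBlock M H) b :=
      fun a b hab => blockCoeff_congr _ hab
    rw [sum_mul_char_div ψ _ hcH] at h1
    have h2 := sum_mul_char_div ψ _ hcG
    rw [h0, zero_div] at h2
    have h3 : MemLocalIdeal M ((0 : ℂ) - 1) := by
      rw [h2, ← h1, ← Finset.sum_sub_distrib]
      refine memIdeal_sum hM _ fun C _ => ?_
      rw [← sub_mul]
      exact memIdeal_mul_right hM (blockCoeff_congr_centralizer hM Q hQ _)
        (memRing_centralChar hM ψ _)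
    exact not_memIdeal_one hM (by simpa using memIdeal_neg h3)
  obtain ⟨χ, hχ, hχne⟩ : ∃ χ ∈ principalBlock M G,
      ∑ h : H, conj ((χ : G → ℂ) h) * (ψ : H → ℂ) h ≠ 0 := by
    by_contra hcon
    push Not at hcon
    apply hne
    simp only [blockCoeff, finsum_mem_eq_toFinset_sum, Finset.mul_sum, Finset.sum_mul]
    rw [Finset.sum_comm]
    refine Finset.sum_eq_zero fun χ hχ => ?_
    rw [Finset.sum_congr rfl (g := fun h : H => ((Nat.card G : ℂ)⁻¹ * (χ : G → ℂ) 1) *
      (conj ((χ : G → ℂ) h) * (ψ : H → ℂ) h)) (fun h _ => by ring), ← Finset.mul_sum,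
      hcon χ (Set.mem_toFinset.1 hχ), mul_zero]
  refine ⟨χ, hχ, fun R _ f a b ha hb => ?_⟩
  have hres : IsCharacter H (fun h : H => (χ : G → ℂ) h) :=
    CfsgLib.CharTwist.isCharacter_comp (CfsgLib.Char.IsIrrCharacter.isCharacter χ.2) H.subtype
  have hdec := CfsgLib.Char.IsCharacter.eq_sum_classInner hres
  choose n hn using fun η : IrrCharacter H =>
    CfsgLib.Char.IsCharacter.exists_nat_classInner hres η.2
  choose m hm using fun η : IrrCharacter H =>
    exists_nat_mult (CfsgLib.Char.IsIrrCharacter.isCharacter η.2) R f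
  have hnψ : n ψ ≠ 0 := fun h0 => hχne (by
    have h1 := hn ψ
    rw [h0, Nat.cast_zero, classInner, mul_eq_zero] at h1
    have h2 := congrArg conj (h1.resolve_left (inv_ne_zero (Nat.cast_ne_zero.2 Nat.card_pos.ne')))
    simp only [map_sum, map_mul, Complex.conj_conj, map_zero] at h2
    exact h2)
  have hmψ : m ψ = a := by exact_mod_cast (hm ψ).symm.trans ha
  have key : (b : ℂ) = ∑ η : IrrCharacter H, (n η : ℂ) * m η := by
    simp only [← hm, ← hn]
    rw [← hb]
    simp only [Finset.mul_sum]
    rw [Finset.sum_comm]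
    refine Finset.sum_congr rfl fun r _ => ?_
    have h1 := congrFun hdec (r : H)
    simp only [Finset.sum_apply, Pi.smul_apply, smul_eq_mul] at h1
    rw [h1, Finset.sum_mul, Finset.mul_sum]
    exact Finset.sum_congr rfl fun η _ => by ring
  have key' : b = ∑ η : IrrCharacter H, n η * m η := by exact_mod_cast key
  have h4 : n ψ * m ψ ≤ ∑ η : IrrCharacter H, n η * m η :=
    Finset.single_le_sum (f := fun η => n η * m η) (fun _ _ => Nat.zero_le _) (Finset.mem_univ ψ)
  rw [← key', hmψ] at h4
  exact le_trans (Nat.le_mul_of_pos_left a (Nat.pos_of_ne_zero hnψ)) h4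

end CfsgLib.ConstBlock
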