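import Mathlib.Data.Finset.Card
import Mathlib.Data.Nat.Basic
import Mathlib.Algebra.Ring.Parity
import Mathlib.Tactic.IntervalCases
import Mathlib.Tactic.Ring

/-!
# Sets of size `e + 1` meeting pairwise in `e` points

A family of distinct sets, each with exactly one point outside a fixed set `P` and containing a
fixed point of `P`, has a second common point in `P` unless it has exactly `e` members.
-/

set_option autoImplicit false

namespace CfsgLib.ConstBlock

/-- Sets of size `n` meeting pairwise in `n - 1` points have a common core or a common hull. -/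
theorem core_or_hull {ι : Type*} [DecidableEq ι] (W : Finset (Finset ι)) {n : ℕ}
    (hW : ∀ A ∈ W, A.card = n + 1) (hpair : ∀ A ∈ W, ∀ B ∈ W, A ≠ B → (A ∩ B).card = n)
    {A B : Finset ι} (hA : A ∈ W) (hB : B ∈ W) (hAB : A ≠ B) :
    (∀ C ∈ W, A ∩ B ⊆ C) ∨ (∀ C ∈ W, C ⊆ A ∪ B) := by
  by_cases h : ∀ C ∈ W, A ∩ B ⊆ C
  · exact Or.inl h
  push Not at h
  obtain ⟨C, hC, hnC⟩ := h
  obtain ⟨x, hx, hxC⟩ := Finset.not_subset.1 hnC
  obtain ⟨hxA, hxB⟩ := Finset.mem_inter.1 hx
  have hCA : C ∩ A = A.erase x := by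
    refine Finset.eq_of_subset_of_card_le (fun y hy => ?_) ?_
    · obtain ⟨hyC, hyA⟩ := Finset.mem_inter.1 hy
      exact Finset.mem_erase.2 ⟨fun e => hxC (e ▸ hyC), hyA⟩
    · rw [hpair C hC A hA (fun e => hxC (e ▸ hxA)), Finset.card_erase_of_mem hxA, hW A hA]
      omega
  have hCB : C ∩ B = B.erase x := by
    refine Finset.eq_of_subset_of_card_le (fun y hy => ?_) ?_
    · obtain ⟨hyC, hyB⟩ := Finset.mem_inter.1 hy
      exact Finset.mem_erase.2 ⟨fun e => hxC (e ▸ hyC), hyB⟩
    · rw [hpair C hC B hB (fun e => hxC (e ▸ hxB)), Finset.card_erase_of_mem hxB, hW B hB]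
      omega
  have hCU : C = (A ∪ B).erase x := by
    refine (Finset.eq_of_subset_of_card_le (fun y hy => ?_) ?_).symm
    · obtain ⟨hyx, hy⟩ := Finset.mem_erase.1 hy
      rcases Finset.mem_union.1 hy with hy | hy
      · exact (Finset.mem_inter.1 (hCA ▸ Finset.mem_erase.2 ⟨hyx, hy⟩ : y ∈ C ∩ A)).1
      · exact (Finset.mem_inter.1 (hCB ▸ Finset.mem_erase.2 ⟨hyx, hy⟩ : y ∈ C ∩ B)).1
    · rw [hW C hC, Finset.card_erase_of_mem (Finset.mem_union_left _ hxA)]
      have := Finset.card_union_add_card_inter A B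
      rw [hW A hA, hW B hB, hpair A hA B hB hAB] at this
      omega
  refine Or.inr fun D hD y hy => ?_
  by_contra hyU
  have hDA : D ∩ A ⊆ A ∩ B := by
    intro z hz
    obtain ⟨hzD, hzA⟩ := Finset.mem_inter.1 hz
    by_contra hzI
    have hzB : z ∉ B := fun h => hzI (Finset.mem_inter.2 ⟨hzA, h⟩)
    have hsub : insert y (insert z (D ∩ B)) ⊆ D := by
      intro w hw
      rcases Finset.mem_insert.1 hw with rfl | hw
      · exact hy
      rcases Finset.mem_insert.1 hw with rfl | hw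
      · exact hzD
      · exact (Finset.mem_inter.1 hw).1
    have := Finset.card_le_card hsub
    rw [Finset.card_insert_of_notMem, Finset.card_insert_of_notMem
      (fun h => hzB (Finset.mem_inter.1 h).2),
      hpair D hD B hB (fun e => hyU (Finset.mem_union_right _ (e ▸ hy))), hW D hD] at this
    · omega
    · intro h
      rcases Finset.mem_insert.1 h with e | h
      · exact hyU (Finset.mem_union_left _ (e ▸ hzA))
      · exact hyU (Finset.mem_union_right _ (Finset.mem_inter.1 h).2)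
  have hDI : D ∩ A = A ∩ B := Finset.eq_of_subset_of_card_le hDA (by
    rw [hpair A hA B hB hAB, hpair D hD A hA fun e => hyU (Finset.mem_union_left _ (e ▸ hy))])
  have hsub : D ∩ C ⊆ (A ∩ B).erase x := by
    intro z hz
    obtain ⟨hzD, hzC⟩ := Finset.mem_inter.1 hz
    refine Finset.mem_erase.2 ⟨fun e => hxC (e ▸ hzC), ?_⟩
    rw [hCU] at hzC
    rcases Finset.mem_union.1 (Finset.mem_erase.1 hzC).2 with h | h
    · exact hDI ▸ Finset.mem_inter.2 ⟨hzD, h⟩
    · by_contra hzI
      have hzA : z ∉ A := fun h' => hzI (Finset.mem_inter.2 ⟨h', h⟩)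
      have hsub' : insert y (insert z (D ∩ A)) ⊆ D := by
        intro w hw
        rcases Finset.mem_insert.1 hw with rfl | hw
        · exact hy
        rcases Finset.mem_insert.1 hw with rfl | hw
        · exact hzD
        · exact (Finset.mem_inter.1 hw).1
      have := Finset.card_le_card hsub'
      rw [Finset.card_insert_of_notMem, Finset.card_insert_of_notMem
        (fun h' => hzA (Finset.mem_inter.1 h').2), hDI, hpair A hA B hB hAB, hW D hD] at this
      · omega
      · intro h'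
        rcases Finset.mem_insert.1 h' with e | h'
        · exact hyU (Finset.mem_union_right _ (e ▸ h))
        · exact hyU (Finset.mem_union_left _ (Finset.mem_inter.1 h').2)
  have h1 := Finset.card_le_card hsub
  have hn : 1 ≤ n := by
    rw [← hpair A hA B hB hAB]
    exact Finset.card_pos.2 ⟨x, hx⟩
  rw [hpair D hD C hC (fun e => hyU ?_), Finset.card_erase_of_mem hx, hpair A hA B hB hAB] at h1
  · omega
  · rw [e, hCU] at hy
    exact (Finset.mem_erase.1 hy).2

/-- A second common point. -/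
theorem exists_common {ι : Type*} [DecidableEq ι] (U : Finset (Finset ι)) (P : Finset ι) (i₀ : ι)
    {e : ℕ} (he : 3 ≤ e) (hne : U.Nonempty) (hU : U.card ≠ e) (hi₀ : i₀ ∈ P)
    (h0 : ∀ A ∈ U, i₀ ∈ A) (hc : ∀ A ∈ U, A.card = e + 1) (hP : ∀ A ∈ U, (A ∩ P).card = e)
    (hpair : ∀ A ∈ U, ∀ B ∈ U, A ≠ B → (A ∩ B).card = e) :
    ∃ i ∈ P, i ≠ i₀ ∧ ∀ A ∈ U, i ∈ A := by
  classical
  obtain ⟨A, hA⟩ := hne
  have hpick : ∀ S : Finset ι, i₀ ∈ S → e ≤ S.card → ∃ i ∈ S, i ≠ i₀ := fun S hS hc' => by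
    obtain ⟨i, hi⟩ : (S.erase i₀).Nonempty := Finset.card_pos.1 (by
      rw [Finset.card_erase_of_mem hS]; omega)
    exact ⟨i, (Finset.mem_erase.1 hi).2, (Finset.mem_erase.1 hi).1⟩
  by_cases hsame : ∃ A ∈ U, ∃ B ∈ U, A \ P ≠ B \ P
  · obtain ⟨A, hA, B, hB, hne'⟩ := hsame
    have hAB : A ≠ B := fun h => hne' (h ▸ rfl)
    have hone : ∀ C ∈ U, (C \ P).card = 1 := fun C hC => by
      have := Finset.card_sdiff_add_card_inter C P
      rw [hc C hC, hP C hC] at this
      omega
    have key : ∀ C ∈ U, ∀ D ∈ U, C \ P ≠ D \ P → C ∩ P = D ∩ P := by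
      intro C hC D hD hCD
      have hCD' : C ≠ D := fun h => hCD (h ▸ rfl)
      have hsub : C ∩ D ⊆ P := by
        intro z hz
        obtain ⟨hzC, hzD⟩ := Finset.mem_inter.1 hz
        by_contra hzP
        obtain ⟨a, ha⟩ := Finset.card_eq_one.1 (hone C hC)
        obtain ⟨b, hb⟩ := Finset.card_eq_one.1 (hone D hD)
        have h1 : z ∈ C \ P := Finset.mem_sdiff.2 ⟨hzC, hzP⟩
        have h2 : z ∈ D \ P := Finset.mem_sdiff.2 ⟨hzD, hzP⟩
        rw [ha, Finset.mem_singleton] at h1
        rw [hb, Finset.mem_singleton] at h2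
        exact hCD (by rw [ha, hb, ← h1, ← h2])
      have e1 : C ∩ D = C ∩ P := Finset.eq_of_subset_of_card_le
        (fun z hz => Finset.mem_inter.2 ⟨(Finset.mem_inter.1 hz).1, hsub hz⟩)
        (by rw [hP C hC, hpair C hC D hD hCD'])
      have e2 : C ∩ D = D ∩ P := Finset.eq_of_subset_of_card_le
        (fun z hz => Finset.mem_inter.2 ⟨(Finset.mem_inter.1 hz).2, hsub hz⟩)
        (by rw [hP D hD, hpair C hC D hD hCD'])
      rw [← e1, e2]
    have hall : ∀ C ∈ U, C ∩ P = A ∩ P := by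
      intro C hC
      by_cases h : C \ P = A \ P
      · rw [key C hC B hB (h ▸ hne'), key A hA B hB hne']
      · exact key C hC A hA h
    obtain ⟨i, hi, hi'⟩ := hpick (A ∩ P) (Finset.mem_inter.2 ⟨h0 A hA, hi₀⟩) (hP A hA).ge
    exact ⟨i, (Finset.mem_inter.1 hi).2, hi', fun C hC =>
      (Finset.mem_inter.1 ((hall C hC).symm ▸ hi)).1⟩
  push Not at hsame
  have hsplit : ∀ C : Finset ι, C = (C \ P) ∪ (C ∩ P) := fun C => (Finset.sdiff_union_inter C P).symm
  by_cases hU1 : ∀ B ∈ U, B = A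
  · obtain ⟨i, hi, hi'⟩ := hpick (A ∩ P) (Finset.mem_inter.2 ⟨h0 A hA, hi₀⟩) (hP A hA).ge
    exact ⟨i, (Finset.mem_inter.1 hi).2, hi', fun C hC => (hU1 C hC).symm ▸ (Finset.mem_inter.1 hi).1⟩
  push Not at hU1
  obtain ⟨B, hB, hBA⟩ := hU1
  have hinj : Set.InjOn (fun C : Finset ι => C ∩ P) U := fun C hC D hD h => by
    rw [hsplit C, hsplit D, hsame C hC D hD]
    exact congrArg _ h
  set W := U.image fun C => C ∩ P with hW
  have hWc : ∀ X ∈ W, X.card = (e - 1) + 1 := by
    intro X hX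
    obtain ⟨C, hC, rfl⟩ := Finset.mem_image.1 hX
    rw [hP C hC]; omega
  have hWp : ∀ X ∈ W, ∀ Y ∈ W, X ≠ Y → (X ∩ Y).card = e - 1 := by
    intro X hX Y hY hXY
    obtain ⟨C, hC, rfl⟩ := Finset.mem_image.1 hX
    obtain ⟨D, hD, rfl⟩ := Finset.mem_image.1 hY
    have hCD : C ≠ D := fun h => hXY (h ▸ rfl)
    have e1 : C ∩ D ∩ P = C ∩ P ∩ (D ∩ P) := by
      ext z; simp only [Finset.mem_inter]; tauto
    have e2 : (C ∩ D) \ P = C \ P := by
      have hs := hsame C hC D hD
      ext z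
      simp only [Finset.ext_iff, Finset.mem_sdiff] at hs
      simp only [Finset.mem_sdiff, Finset.mem_inter]
      exact ⟨fun h => ⟨h.1.1, h.2⟩, fun h => ⟨⟨h.1, ((hs z).1 h).1⟩, h.2⟩⟩
    have h1 := Finset.card_sdiff_add_card_inter (C ∩ D) P
    have h2 := Finset.card_sdiff_add_card_inter C P
    rw [e1, e2, hpair C hC D hD hCD] at h1
    rw [hc C hC, hP C hC] at h2
    omega
  have hA' : A ∩ P ∈ W := Finset.mem_image_of_mem _ hA
  have hB' : B ∩ P ∈ W := Finset.mem_image_of_mem _ hB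
  have hAB' : A ∩ P ≠ B ∩ P := fun h => hBA (hinj hB hA h.symm)
  rcases core_or_hull W hWc hWp hA' hB' hAB' with hcore | hhull
  · obtain ⟨i, hi, hi'⟩ : ∃ i ∈ (A ∩ P) ∩ (B ∩ P), i ≠ i₀ := by
      obtain ⟨i, hi⟩ : (((A ∩ P) ∩ (B ∩ P)).erase i₀).Nonempty := Finset.card_pos.1 (by
        rw [Finset.card_erase_of_mem, hWp _ hA' _ hB' hAB']
        · omega
        · simp [h0 A hA, h0 B hB, hi₀])
      exact ⟨i, (Finset.mem_erase.1 hi).2, (Finset.mem_erase.1 hi).1⟩
    exact ⟨i, (Finset.mem_inter.1 (Finset.mem_inter.1 hi).1).2, hi', fun C hC =>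
      (Finset.mem_inter.1 (hcore _ (Finset.mem_image_of_mem _ hC) hi)).1⟩
  · set V := (A ∩ P) ∪ (B ∩ P) with hV
    have hVc : V.card = e + 1 := by
      have := Finset.card_union_add_card_inter (A ∩ P) (B ∩ P)
      rw [hP A hA, hP B hB, hWp _ hA' _ hB' hAB'] at this
      show V.card = e + 1
      rw [hV]; omega
    have hi₀V : i₀ ∈ V := Finset.mem_union_left _ (Finset.mem_inter.2 ⟨h0 A hA, hi₀⟩)
    by_contra hno
    push Not at hno
    have hWeq : W = (V.erase i₀).image fun v => V.erase v := by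
      ext X
      constructor
      · intro hX
        obtain ⟨v, hv⟩ : (V \ X).Nonempty := Finset.card_pos.1 (by
          rw [Finset.card_sdiff_of_subset (hhull X hX), hVc, hWc X hX]; omega)
        obtain ⟨hvV, hvX⟩ := Finset.mem_sdiff.1 hv
        refine Finset.mem_image.2 ⟨v, Finset.mem_erase.2 ⟨?_, hvV⟩, ?_⟩
        · rintro rfl
          obtain ⟨C, hC, rfl⟩ := Finset.mem_image.1 hX
          exact hvX (Finset.mem_inter.2 ⟨h0 C hC, hi₀⟩)
        · refine (Finset.eq_of_subset_of_card_le (fun z hz => Finset.mem_erase.2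
            ⟨ne_of_mem_of_not_mem hz hvX, hhull X hX hz⟩) ?_).symm
          rw [Finset.card_erase_of_mem hvV, hVc, hWc X hX]; omega
      · intro hX
        obtain ⟨v, hv, rfl⟩ := Finset.mem_image.1 hX
        obtain ⟨hvi, hvV⟩ := Finset.mem_erase.1 hv
        have hvP : v ∈ P := by
          rcases Finset.mem_union.1 hvV with h | h <;> exact (Finset.mem_inter.1 h).2
        obtain ⟨C, hC, hvC⟩ := hno v hvP hvi
        have hC' : C ∩ P ∈ W := Finset.mem_image_of_mem _ hC
        have : V.erase v = C ∩ P := by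
          refine (Finset.eq_of_subset_of_card_le (fun z hz => Finset.mem_erase.2
            ⟨ne_of_mem_of_not_mem (Finset.mem_inter.1 hz).1 hvC, hhull _ hC' hz⟩) ?_).symm
          rw [Finset.card_erase_of_mem hvV, hVc, hP C hC]; omega
        rw [this]; exact hC'
    apply hU
    have h1 := congrArg Finset.card hWeq
    rw [hW, Finset.card_image_of_injOn hinj, Finset.card_image_of_injOn] at h1
    · rw [h1, Finset.card_erase_of_mem hi₀V, hVc]; omega
    · intro a ha b hb hab
      by_contra hne'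
      have : a ∈ V.erase b := Finset.mem_erase.2 ⟨hne', (Finset.mem_erase.1 ha).2⟩
      have hab' : V.erase a = V.erase b := hab
      rw [← hab'] at this
      exact (Finset.mem_erase.1 this).1 rfl

end CfsgLib.ConstBlock
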