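import Cfsg.Agent.Lib.SL2Values.Basic
import Cfsg.Agent.Lib.BlockReg.Basic
import Cfsg.Agent.Lib.Char.Linear
import Cfsg.Agent.Lib.Char.Twist

/-!
# Characters of `SL(2, 2^n)` at an involution

Every nonprincipal irreducible character `χ` has `χ 1 - χ t = 2^n` at an involution `t`.
-/

set_option autoImplicit false
set_option linter.unusedSectionVars false
set_option maxHeartbeats 1000000

open Matrix CfsgLib.SL2Borel CfsgLib.SL2Deg CfsgLib.SL2Values CfsgLib.SL2Trace

namespace CfsgLib.ConstBlock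

variable {F : Type} [Field F] [Fintype F] [DecidableEq F] [CharP F 2]

local notation "SL2" => Matrix.SpecialLinearGroup (Fin 2) F

/-- Every involution is conjugate to the transvection with entry one. -/
theorem isConj_u_one (g : SL2) (hg : g * g = 1) (hne : g ≠ 1) : IsConj (u (1 : F)) g := by
  set N : Matrix (Fin 2) (Fin 2) F := (g : Matrix (Fin 2) (Fin 2) F) with hN
  have hdet : N.det = 1 := g.2
  have h2 : (2 : F) = 0 := CharTwo.two_eq_zero
  have hneg : ∀ x : F, -x = x := CharTwo.neg_eq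
  set a := N 0 0 with ha
  set b := N 0 1 with hb
  set c := N 1 0 with hc
  set d := N 1 1 with hd
  have hsq : N * N = 1 := by
    rw [hN, ← Matrix.SpecialLinearGroup.coe_mul, hg, Matrix.SpecialLinearGroup.coe_one]
  have hdet' : a * d - b * c = 1 := by rw [← hdet, Matrix.det_fin_two]
  have e00 : a * a + b * c = 1 := by
    have := congrFun (congrFun hsq 0) 0
    simpa [Matrix.mul_apply, Fin.sum_univ_two] using this
  have e11 : c * b + d * d = 1 := by
    have := congrFun (congrFun hsq 1) 1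
    simpa [Matrix.mul_apply, Fin.sum_univ_two] using this
  have had : d = a := by
    have : (d - a) * (d - a) = 0 := by
      linear_combination e11 + e00 - 2 * hdet' - (2 * (b * c)) * h2
    exact sub_eq_zero.1 (mul_self_eq_zero.1 this)
  have hsqrt : ∀ z : F, ∃ l : F, l * l = z := fun z => by
    obtain ⟨r, hr⟩ := FiniteField.isSquare_of_char_two (ringChar.eq F 2) z
    exact ⟨r, hr.symm⟩
  suffices H : ∃ w x y z : F, w * z - x * y = 1 ∧ a * w + b * y = w ∧ a * x + b * z = w + x ∧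
      c * w + d * y = y ∧ c * x + d * z = y + z by
    obtain ⟨w, x, y, z, h1, h3, h4, h5, h6⟩ := H
    obtain ⟨W, hW⟩ : ∃ W : SL2, (W : Matrix (Fin 2) (Fin 2) F) = !![w, x; y, z] :=
      ⟨⟨!![w, x; y, z], by rw [Matrix.det_fin_two_of]; exact h1⟩, rfl⟩
    refine isConj_iff.2 ⟨W, ?_⟩
    rw [mul_inv_eq_iff_eq_mul]
    refine Subtype.ext ?_
    rw [Matrix.SpecialLinearGroup.coe_mul, Matrix.SpecialLinearGroup.coe_mul, hW, coe_u, ← hN]
    ext i j
    fin_cases i <;> fin_cases j <;>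
      simp [Matrix.mul_apply, Fin.sum_univ_two, ← ha, ← hb, ← hc, ← hd, h3, h4, h5, h6]
  by_cases hc0 : c = 0
  · have ha1 : a = 1 := by
      have : (a - 1) * (a - 1) = 0 := by
        rw [hc0] at e00
        linear_combination e00 - (a - 1) * h2
      exact sub_eq_zero.1 (mul_self_eq_zero.1 this)
    have hb0 : b ≠ 0 := by
      intro hb0
      apply hne
      refine Subtype.ext ?_
      rw [Matrix.SpecialLinearGroup.coe_one, ← hN]
      ext i j
      fin_cases i <;> fin_cases j <;> simp [← ha, ← hb, ← hc, ← hd, hc0, hb0, ha1, had]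
    obtain ⟨l, hl⟩ := hsqrt b⁻¹
    refine ⟨l * b, 0, 0, l, ?_, ?_, ?_, ?_, ?_⟩
    · have : l * l * b = 1 := by rw [hl]; exact inv_mul_cancel₀ hb0
      linear_combination this
    · rw [ha1]; ring
    · rw [ha1]; ring
    · rw [hc0]; ring
    · rw [had, ha1, hc0]; ring
  · obtain ⟨l, hl⟩ := hsqrt c⁻¹
    refine ⟨l * (a + 1), l, l * c, 0, ?_, ?_, ?_, ?_, ?_⟩
    · have : l * l * c = 1 := by rw [hl]; exact inv_mul_cancel₀ hc0
      linear_combination this - (l * l * c) * h2
    · linear_combination l * e00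
    · linear_combination -l * h2
    · rw [had]; linear_combination (l * c * a) * h2
    · rw [had]; ring

/-- A character equal to its degree at all square roots of the identity is constant. -/
theorem eq_deg_of_invol {χ : Cfsg.IrrCharacter SL2}
    (h : ∀ t : SL2, t * t = 1 → (χ : SL2 → ℂ) t = (χ : SL2 → ℂ) 1) (g : SL2) :
    (χ : SL2 → ℂ) g = (χ : SL2 → ℂ) 1 := by
  obtain ⟨n, ρ, -, hρ⟩ := χ.2
  have hker : ∀ x : SL2, ρ x = LinearMap.id ↔ (χ : SL2 → ℂ) x = (χ : SL2 → ℂ) 1 := fun x => by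
    rw [← hρ, Representation.char_one, CfsgLib.Char.character_eq_degree_iff]
  let K : Subgroup SL2 := ρ.toHomUnits.ker
  have hK : ∀ x : SL2, x ∈ K ↔ ρ x = LinearMap.id := fun x => by
    rw [MonoidHom.mem_ker, Units.ext_iff]
    rfl
  have hinv : ∀ x : SL2, x * x = 1 → x ∈ K := fun x hx => (hK x).2 ((hker x).2 (h x hx))
  have hu : ∀ b : F, u b ∈ K := fun b => hinv _ (by
    refine Subtype.ext ?_
    rw [Matrix.SpecialLinearGroup.coe_mul, coe_u, Matrix.SpecialLinearGroup.coe_one]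
    ext i j
    fin_cases i <;> fin_cases j <;>
      simp [Matrix.mul_apply, Fin.sum_univ_two, CharTwo.add_self_eq_zero])
  obtain ⟨low, coe_low⟩ : ∃ low : F → SL2,
      ∀ c, (low c : Matrix (Fin 2) (Fin 2) F) = !![1, 0; c, 1] :=
    ⟨fun c => ⟨!![1, 0; c, 1], by simp [Matrix.det_fin_two]⟩, fun c => rfl⟩
  have hlow : ∀ c : F, low c ∈ K := fun c => hinv _ (by
    refine Subtype.ext ?_
    rw [Matrix.SpecialLinearGroup.coe_mul, coe_low, Matrix.SpecialLinearGroup.coe_one]
    ext i j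
    fin_cases i <;> fin_cases j <;>
      simp [Matrix.mul_apply, Fin.sum_univ_two, CharTwo.add_self_eq_zero])
  have hne : ∀ x : SL2, (x : Matrix (Fin 2) (Fin 2) F) 1 0 ≠ 0 → x ∈ K := by
    intro x hx
    set N : Matrix (Fin 2) (Fin 2) F := (x : Matrix (Fin 2) (Fin 2) F) with hN
    have hdet' : N 0 0 * N 1 1 - N 0 1 * N 1 0 = 1 := by rw [← x.2, Matrix.det_fin_two]
    have : x = u ((N 0 0 - 1) / N 1 0) * low (N 1 0) * u ((N 1 1 - 1) / N 1 0) := by
      refine Subtype.ext ?_
      rw [Matrix.SpecialLinearGroup.coe_mul, Matrix.SpecialLinearGroup.coe_mul, coe_u, coe_u,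
        coe_low, ← hN]
      ext i j
      fin_cases i <;> fin_cases j <;>
        simp [Matrix.mul_apply, Fin.sum_univ_two] <;> field_simp <;>
        first | ring1 | linear_combination hdet' | linear_combination -hdet'
    rw [this]
    exact mul_mem (mul_mem (hu _) (hlow _)) (hu _)
  refine (hker g).1 ((hK g).1 ?_)
  by_cases hg : (g : Matrix (Fin 2) (Fin 2) F) 1 0 = 0
  · have hd : (g : Matrix (Fin 2) (Fin 2) F) 1 1 ≠ 0 := fun h0 => by
      have := g.2
      rw [Matrix.det_fin_two, hg, h0, mul_zero, mul_zero, sub_zero] at this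
      exact zero_ne_one this
    have h1 := hne (g * low 1) (by
      rw [Matrix.SpecialLinearGroup.coe_mul, coe_low]
      simpa [Matrix.mul_apply, Fin.sum_univ_two, hg] using hd)
    have h2 := mul_mem h1 (inv_mem (hlow 1))
    rwa [mul_inv_cancel_right] at h2
  · exact hne g hg

/-- The value at an involution of a nonprincipal irreducible character. -/
theorem sl2_const (χ : Cfsg.IrrCharacter SL2) (hne : ∃ g, (χ : SL2 → ℂ) g ≠ 1) (t : SL2)
    (ht : t * t = 1) (ht1 : t ≠ 1) :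
    (χ : SL2 → ℂ) 1 - (χ : SL2 → ℂ) t = (Fintype.card F : ℂ) := by
  rw [← CfsgLib.BlockReg.char_conj_invariant χ _ _ (isConj_u_one t ht ht1)]
  obtain ⟨ψ, hψ⟩ := exists_primitive (F := F)
  obtain ⟨St, -, hall⟩ := even_cases (F := F) hψ
  obtain ⟨f, m, hf, hm, hm1⟩ : ∃ f m : ℕ, mult ψ 0 χ = f ∧ mult ψ 1 χ = m ∧ (m = 1 ∨ (m = 0 ∧ f = 1)) := by
    rcases hall χ with ⟨a, b⟩ | ⟨-, a, b⟩ | ⟨a, b⟩ | ⟨a, b⟩
    · exact ⟨1, 0, by exact_mod_cast a, by exact_mod_cast b, Or.inr ⟨rfl, rfl⟩⟩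
    · exact ⟨1, 1, by exact_mod_cast a, by exact_mod_cast b, Or.inl rfl⟩
    · exact ⟨2, 1, by exact_mod_cast a, by exact_mod_cast b, Or.inl rfl⟩
    · exact ⟨0, 1, by exact_mod_cast a, by exact_mod_cast b, Or.inl rfl⟩
  have hdeg : f + (Fintype.card F - 1) * m = Cfsg.charDegree (χ : SL2 → ℂ) :=
    nat_degree_even hψ hf hm (CfsgLib.BlockReg.deg_cast χ).symm
  have hval := apply_u_one_of_const hψ hf (fun s hs => by rw [mult_eq_one_even hs, hm])
  rw [hval, ← CfsgLib.BlockReg.deg_cast, ← hdeg]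
  rcases hm1 with rfl | ⟨rfl, rfl⟩
  · have : 1 ≤ Fintype.card F := Fintype.card_pos
    push_cast [Nat.cast_sub this]
    ring
  · exfalso
    obtain ⟨g, hg⟩ := hne
    apply hg
    have hd1 : (χ : SL2 → ℂ) 1 = 1 := by rw [← CfsgLib.BlockReg.deg_cast, ← hdeg]; simp
    rw [eq_deg_of_invol (χ := χ) (fun s hs => ?_) g, hd1]
    by_cases hs1 : s = 1
    · rw [hs1]
    · rw [← CfsgLib.BlockReg.char_conj_invariant χ _ _ (isConj_u_one s hs hs1), hval, hd1]
      simp

end CfsgLib.ConstBlock
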