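import Cfsg.Agent.Lib.ConstBlock.Main
import Cfsg.Agent.Lib.ConstBlock.SL2
import Cfsg.Agent.Lib.SEmb.ProjLineRel

/-!
# Principal 2-blocks on which `χ 1 - χ u` is constant
-/

set_option autoImplicit false
set_option linter.unusedSectionVars false
set_option linter.style.haveILetI false
set_option maxHeartbeats 1000000

open scoped ComplexConjugate

namespace CfsgLib.ConstBlock

open Cfsg CfsgLib.BlockReg CfsgLib.Invol.BlockCol CfsgLib.Char
open scoped Classical

universe u

variable {G : Type u} [Group G] [Finite G]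

/-- In a group of order two the constant is two. -/
theorem const_two (hcard : Nat.card G = 2) {t : G} (ht : t ≠ 1) (η : IrrCharacter G)
    (hne : η ≠ principalIrr) : (η : G → ℂ) 1 - (η : G → ℂ) t = 2 := by
  cases nonempty_fintype G
  have huniv : ∀ g : G, g = 1 ∨ g = t := by
    intro g
    obtain ⟨x, y, hxy, hu⟩ := Nat.card_eq_two_iff.1 hcard
    have e1 : (1 : G) = x ∨ (1 : G) = y := by simpa using (Set.ext_iff.1 hu 1).2 (Set.mem_univ _)
    have e2 : g = x ∨ g = y := by simpa using (Set.ext_iff.1 hu g).2 (Set.mem_univ _)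
    have e3 : t = x ∨ t = y := by simpa using (Set.ext_iff.1 hu t).2 (Set.mem_univ _)
    rcases e1 with e1 | e1 <;> rcases e2 with e2 | e2 <;> rcases e3 with e3 | e3 <;> simp_all
  have hd : charDegree (η : G → ℂ) = 1 := by
    have h1 := Finset.single_le_sum (f := fun χ : IrrCharacter G => degree (χ : G → ℂ) ^ 2)
      (fun _ _ => Nat.zero_le _) (Finset.mem_univ η)
    rw [sum_degree_sq, hcard] at h1
    have h2 := deg_pos η
    change charDegree (η : G → ℂ) ^ 2 ≤ 2 at h1
    nlinarith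
  obtain ⟨f, hf⟩ := IsCharacter.exists_linear (IsIrrCharacter.isCharacter η.2)
    (by rw [← deg_cast, hd, Nat.cast_one])
  have hsq : (f t : ℂ) = 1 ∨ (f t : ℂ) = -1 := by
    refine sq_eq_one_iff.1 ?_
    rw [← Units.val_pow_eq_pow_val, ← map_pow, ← hcard, pow_card_eq_one', map_one, Units.val_one]
  rcases hsq with h1 | h1
  · exfalso
    refine hne (Subtype.ext (funext fun g => ?_))
    rcases huniv g with rfl | rfl
    · rw [hf, map_one]; rfl
    · rw [hf, h1]; rfl
  · rw [hf, hf, map_one, h1, Units.val_one]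
    norm_num

variable [Fact (Nat.Prime 2)] {M : Ideal AlgInt}

/-- The criterion, for the quotient by the odd core. -/
theorem criterion_core (hM : IsPModular 2 M) (hcore : oddCore G = ⊥) (u : G) :
    (∃ k : ℂ, ∀ χ ∈ pBlock M G, χ ≠ principalIrr → (χ : G → ℂ) 1 - (χ : G → ℂ) u = k) ↔
      (u = 1 ∨ (Nat.card G = 2 ∧ u ≠ 1) ∨
        ∃ (F : Type) (_ : Field F) (_ : Fintype F) (n : ℕ), 2 ≤ n ∧ Fintype.card F = 2 ^ n ∧
          Nonempty (G ≃* Matrix.ProjectiveSpecialLinearGroup (Fin 2) F) ∧ u ≠ 1 ∧ u ^ 2 = 1) := by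
  constructor
  · rintro ⟨k, hk⟩
    by_cases hu : u = 1
    · exact Or.inl hu
    have h : Hyp M u k := ⟨hM, hk, hcore, hu⟩
    rcases h.structure_thm with h2 | ⟨F, i1, i2, n, hn, hF, he⟩
    · exact Or.inr (Or.inl ⟨h2, hu⟩)
    · exact Or.inr (Or.inr ⟨F, i1, i2, n, hn, hF, he, hu, h.u_sq⟩)
  · rintro (rfl | ⟨h2, hu⟩ | ⟨F, i1, i2, n, hn, hF, ⟨e⟩, hu, hu2⟩)
    · exact ⟨0, fun χ _ _ => sub_self _⟩
    · exact ⟨2, fun χ _ hne => const_two h2 hu χ hne⟩
    · haveI : CharP F 2 := by
        haveI : CharP F (ringChar F) := ringChar.charP F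
        obtain ⟨m, hp, hcard⟩ := FiniteField.card F (ringChar F)
        have h2 : ringChar F = 2 := by
          have h1 : ringChar F ∣ 2 ^ n := hF ▸ hcard ▸ dvd_pow_self _ m.pos.ne'
          exact (Nat.prime_dvd_prime_iff_eq hp Nat.prime_two).1 (hp.dvd_of_dvd_pow h1)
        exact h2 ▸ inferInstance
      let π : Matrix.SpecialLinearGroup (Fin 2) F →*
          Matrix.ProjectiveSpecialLinearGroup (Fin 2) F := QuotientGroup.mk' _
      have hπ : Function.Bijective π := by
        refine ⟨?_, QuotientGroup.mk'_surjective _⟩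
        rw [← MonoidHom.ker_eq_bot_iff, QuotientGroup.ker_mk',
          CfsgLib.SEmb.ProjLine.center_eq_bot fun x => CharTwo.add_self_eq_zero x]
      let e' : Matrix.SpecialLinearGroup (Fin 2) F ≃* G := (MulEquiv.ofBijective π hπ).trans e.symm
      refine ⟨(Fintype.card F : ℂ), fun χ _ hne => ?_⟩
      have hc := sl2_const (CfsgLib.Blk83.irrComp e' χ) ?_ (e'.symm u) ?_ ?_
      · simpa using hc
      · by_contra hcon
        push Not at hcon
        exact hne (Subtype.ext (funext fun g => by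
          have := hcon (e'.symm g)
          rw [CfsgLib.Blk83.irrComp_apply, MulEquiv.apply_symm_apply] at this
          exact this))
      · rw [← map_mul, ← pow_two, hu2, map_one]
      · intro h1
        apply hu
        simpa using congrArg e' h1

/-- The criterion. -/
theorem criterion (hM : IsPModular 2 M) (u : G) :
    (∃ k : ℂ, ∀ χ : IrrCharacter G, χ ∈ principalBlock M G → (χ : G → ℂ) ≠ (fun _ => 1) →
        (χ : G → ℂ) 1 - (χ : G → ℂ) u = k) ↔
      (u ∈ oddCore G ∨ (Nat.card (G ⧸ oddCore G) = 2 ∧ u ∉ oddCore G) ∨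
        (∃ (F : Type) (_ : Field F) (_ : Fintype F) (n : ℕ), 2 ≤ n ∧ Fintype.card F = 2 ^ n ∧
          Nonempty (G ⧸ oddCore G ≃* Matrix.ProjectiveSpecialLinearGroup (Fin 2) F) ∧
            u ∉ oddCore G ∧ u ^ 2 ∈ oddCore G)) := by
  haveI hn : (oddCore G).Normal := CfsgLib.Solvable.pPrimeCore_normal 2 G
  have hN : ¬ 2 ∣ Nat.card (oddCore G) :=
    Nat.prime_two.coprime_iff_not_dvd.1 (CfsgLib.Solvable.pPrimeCore_card_coprime 2 G).symm
  have hcore : oddCore (G ⧸ oddCore G) = ⊥ :=
    CfsgLib.Solvable.pPrimeCore_quotient_eq_bot _ rfl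
  have hbij := CfsgLib.Blk83.inflIrr_bijOn hM (oddCore G) hN
  have hc := criterion_core hM hcore (u : G ⧸ oddCore G)
  have hne : ∀ η : IrrCharacter (G ⧸ oddCore G),
      (CfsgLib.Blk83.inflIrr (oddCore G) η : G → ℂ) ≠ (fun _ => 1) ↔ η ≠ principalIrr := by
    intro η
    refine not_congr ⟨fun h => Subtype.ext (funext fun x => ?_), fun h => ?_⟩
    · obtain ⟨g, rfl⟩ := QuotientGroup.mk_surjective x
      simpa using congrFun h g
    · funext g; simp [h]
  simp only [← QuotientGroup.mk_pow, ne_eq, QuotientGroup.eq_one_iff] at hc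
  rw [← hc]
  constructor
  · rintro ⟨k, hk⟩
    refine ⟨k, fun η hη h1 => ?_⟩
    have := hk _ (hbij.mapsTo (mem_pBlock.1 hη)) ((hne η).2 h1)
    simpa using this
  · rintro ⟨k, hk⟩
    refine ⟨k, fun χ hχ h1 => ?_⟩
    obtain ⟨η, hη, rfl⟩ := hbij.surjOn hχ
    have := hk η (mem_pBlock.2 hη) ((hne η).1 h1)
    simpa using this

end CfsgLib.ConstBlock
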