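import Cfsg.Agent.Lib.ConstBlock.Comb
import Mathlib.Algebra.BigOperators.Ring.Finset
import Mathlib.Data.Fintype.Card
import Mathlib.Data.Int.Basic
import Mathlib.Algebra.Module.Defs
import Mathlib.Algebra.Module.Basic
import Mathlib.Tactic.IntervalCases
import Mathlib.Tactic.Linarith

/-!
# Multiplicity vectors with the Gram matrix of a free action

Zero-one rows `a i`, indexed by a set `Λ` on which a set `E` of odd size acts freely away from the
point `o`, whose differences `a i f - a i o` have Gram matrix `|E| + #{φ | φ g = f}`: some row besides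
the distinguished one is the indicator of `o`.
-/

set_option autoImplicit false
set_option linter.unusedSectionVars false

namespace CfsgLib.ConstBlock

theorem exists_trivial_row {ι Λ E : Type*} [DecidableEq ι] [Fintype Λ] [DecidableEq Λ] [Fintype E]
    [DecidableEq E] (B : Finset ι) (i₀ : ι) (hi₀ : i₀ ∈ B) (o : Λ) (d : ι → ℕ) (a : ι → Λ → ℕ)
    (act : E → Λ → Λ) (j : ℕ) (he : 3 ≤ Fintype.card E) (hodd : ¬ 2 ∣ Fintype.card E)
    (hΛ : Fintype.card Λ = 2 ^ j) (hne : ∃ f, f ≠ o)
    (ha : ∀ i ∈ B, ∀ f, a i f ≤ 1) (ha₀ : ∀ f, a i₀ f = if f = o then 1 else 0)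
    (hd : ∀ i ∈ B, d i = ∑ f, a i f) (hone : ∃ φ, ∀ f, act φ f = f)
    (hact : ∀ i ∈ B, ∀ f φ, a i (act φ f) = a i f) (hacto : ∀ φ f, f ≠ o → act φ f ≠ o)
    (hinj : ∀ f, f ≠ o → Function.Injective fun φ => act φ f)
    (hgram : ∀ f g, f ≠ o → g ≠ o →
      ∑ i ∈ B, ((a i f : ℤ) - a i o) * ((a i g : ℤ) - a i o) =
        (Fintype.card E : ℤ) + ((Finset.univ.filter fun φ => act φ g = f).card : ℤ))
    (hdv : ∀ f, f ≠ o → ∑ i ∈ B, (d i : ℤ) * ((a i f : ℤ) - a i o) = 0) :
    ∃ i ∈ B, i ≠ i₀ ∧ a i o = 1 ∧ ∀ f, f ≠ o → a i f = 0 := by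
  classical
  set e := Fintype.card E
  set S : Λ → Finset ι := fun f => B.filter fun i => a i f ≠ a i o with hS
  set T : Finset ι := B.filter fun i => a i o = 1 with hT
  have hinner : ∀ f g, f ≠ o → g ≠ o →
      ((S f ∩ S g).card : ℤ) = (e : ℤ) + ((Finset.univ.filter fun φ => act φ g = f).card : ℤ) := by
    intro f g hf hg
    rw [← hgram f g hf hg, hS, ← Finset.filter_and, Finset.card_filter, Nat.cast_sum]
    refine Finset.sum_congr rfl fun i hi => ?_
    have b1 := ha i hi f
    have b2 := ha i hi g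
    have b3 := ha i hi o
    interval_cases h1 : a i f <;> interval_cases h2 : a i g <;> interval_cases h3 : a i o <;> simp
  have hScard : ∀ f, f ≠ o → (S f).card = e + 1 := by
    intro f hf
    have h1 := hinner f f hf hf
    obtain ⟨φ₁, hφ₁⟩ := hone
    rw [Finset.inter_self, show (Finset.univ.filter fun φ => act φ f = f) = {φ₁} from
      Finset.eq_singleton_iff_unique_mem.2 ⟨by simp [hφ₁], fun φ hφ => hinj f hf (by
        simp only [(Finset.mem_filter.1 hφ).2, hφ₁])⟩, Finset.card_singleton] at h1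
    exact_mod_cast h1
  have hSact : ∀ f φ, S (act φ f) = S f := fun f φ =>
    Finset.filter_congr fun i hi => by rw [hact i hi]
  have hpair : ∀ f g, f ≠ o → g ≠ o → S f ≠ S g → (S f ∩ S g).card = e := by
    intro f g hf hg hne'
    have h1 := hinner f g hf hg
    rw [Finset.filter_eq_empty_iff.2 fun φ _ e' => hne' (by rw [← e', hSact]), Finset.card_empty,
      Nat.cast_zero, add_zero] at h1
    exact_mod_cast h1
  have hfib : ∀ f, f ≠ o → ((Finset.univ.erase o).filter fun g => S g = S f) =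
      Finset.univ.image fun φ => act φ f := by
    intro f hf
    ext g
    simp only [Finset.mem_filter, Finset.mem_erase, Finset.mem_univ, and_true, Finset.mem_image,
      true_and]
    refine ⟨fun ⟨hg, hSg⟩ => ?_, ?_⟩
    · by_contra hcon
      push Not at hcon
      have h1 := hinner g f hg hf
      rw [Finset.filter_eq_empty_iff.2 fun φ _ => hcon φ, hSg, Finset.inter_self, hScard f hf,
        Finset.card_empty] at h1
      push_cast at h1
      omega
    · rintro ⟨φ, rfl⟩
      exact ⟨hacto φ f hf, hSact f φ⟩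
  have hfibcard : ∀ f, f ≠ o → ((Finset.univ.erase o).filter fun g => S g = S f).card = e := by
    intro f hf
    rw [hfib f hf, Finset.card_image_of_injective _ (hinj f hf)]
    rfl
  set U := (Finset.univ.erase o).image S with hU
  have hmaps : ∀ f ∈ Finset.univ.erase o, S f ∈ U := fun f hf => Finset.mem_image_of_mem S hf
  have hmod : ∀ i ∈ B, (e : ℤ) ∣ (d i : ℤ) - a i o := by
    intro i hi
    rw [hd i hi, ← Finset.add_sum_erase _ _ (Finset.mem_univ o)]
    push_cast
    rw [add_sub_cancel_left, ← Finset.sum_fiberwise_of_maps_to hmaps]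
    refine Finset.dvd_sum fun A hA => ?_
    obtain ⟨f, hf, rfl⟩ := Finset.mem_image.1 hA
    have hf' := Finset.ne_of_mem_erase hf
    rw [Finset.sum_congr rfl (g := fun _ => (a i f : ℤ)) (fun g hg => by
      rw [hfib f hf'] at hg
      obtain ⟨φ, -, rfl⟩ := Finset.mem_image.1 hg
      rw [hact i hi]), Finset.sum_const, hfibcard f hf', nsmul_eq_mul]
    exact dvd_mul_right _ _
  have hneg : ∀ f, f ≠ o → (S f ∩ T).card = e := by
    intro f hf
    have h3 : (e : ℤ) ∣ ∑ i ∈ B, (a i o : ℤ) * ((a i f : ℤ) - a i o) := by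
      have h4 : (e : ℤ) ∣ ∑ i ∈ B, ((d i : ℤ) - a i o) * ((a i f : ℤ) - a i o) :=
        Finset.dvd_sum fun i hi => dvd_mul_of_dvd_left (hmod i hi) _
      simp only [sub_mul, Finset.sum_sub_distrib, hdv f hf, zero_sub, dvd_neg] at h4
      exact h4
    have h5 : ∑ i ∈ B, (a i o : ℤ) * ((a i f : ℤ) - a i o) = -((S f ∩ T).card : ℤ) := by
      rw [hS, hT, ← Finset.filter_and, Finset.card_filter, Nat.cast_sum, ← Finset.sum_neg_distrib]
      refine Finset.sum_congr rfl fun i hi => ?_
      have b1 := ha i hi f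
      have b2 := ha i hi o
      interval_cases h1 : a i f <;> interval_cases h2 : a i o <;> simp
    rw [h5, dvd_neg, Int.natCast_dvd_natCast] at h3
    have h6 : (S f ∩ T).card ≤ e + 1 :=
      hScard f hf ▸ Finset.card_le_card Finset.inter_subset_left
    have h7 : 1 ≤ (S f ∩ T).card := Finset.card_pos.2 ⟨i₀, by simp [hS, hT, hi₀, ha₀, hf]⟩
    obtain ⟨c, hc⟩ := h3
    rcases c with _ | _ | c
    · omega
    · omega
    · rw [hc] at h6
      have := Nat.mul_le_mul_left e (show 2 ≤ c + 1 + 1 by omega)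
      omega
  have hcount : Fintype.card Λ - 1 = e * U.card := by
    rw [← Finset.card_univ, ← Finset.card_erase_of_mem (Finset.mem_univ o),
      Finset.card_eq_sum_card_fiberwise hmaps,
      Finset.sum_congr rfl (g := fun _ => e) (fun A hA => by
        obtain ⟨f, hf, rfl⟩ := Finset.mem_image.1 hA
        exact hfibcard f (Finset.ne_of_mem_erase hf)), Finset.sum_const, smul_eq_mul, mul_comm]
  obtain ⟨f₀, hf₀⟩ := hne
  have hUne : U.Nonempty := ⟨S f₀, hmaps f₀ (Finset.mem_erase.2 ⟨hf₀, Finset.mem_univ _⟩)⟩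
  have hUe : U.card ≠ e := by
    intro hUe
    rw [hUe, hΛ] at hcount
    obtain ⟨t, ht⟩ : ∃ t, e = 2 * t + 1 := ⟨e / 2, by omega⟩
    have hr : 2 ^ j = 4 * (t * t + t) + 2 := by
      have : 0 < 2 ^ j := Nat.pow_pos two_pos
      rw [ht] at hcount
      have h' : (2 * t + 1) * (2 * t + 1) = 4 * (t * t + t) + 1 := by ring
      omega
    rcases j with _ | _ | j
    · omega
    · simp at hr
      omega
    · rw [pow_succ, pow_succ] at hr
      omega
  obtain ⟨i, hiT, hi1, hiall⟩ := exists_common U T i₀ he hUne hUe (by simp [hT, hi₀, ha₀])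
    (fun A hA => by
      obtain ⟨f, hf, rfl⟩ := Finset.mem_image.1 hA
      simp [hS, hi₀, ha₀, Finset.ne_of_mem_erase hf])
    (fun A hA => by
      obtain ⟨f, hf, rfl⟩ := Finset.mem_image.1 hA
      exact hScard f (Finset.ne_of_mem_erase hf))
    (fun A hA => by
      obtain ⟨f, hf, rfl⟩ := Finset.mem_image.1 hA
      exact hneg f (Finset.ne_of_mem_erase hf))
    (fun A hA C hC hAC => by
      obtain ⟨f, hf, rfl⟩ := Finset.mem_image.1 hA
      obtain ⟨g, hg, rfl⟩ := Finset.mem_image.1 hC
      exact hpair f g (Finset.ne_of_mem_erase hf) (Finset.ne_of_mem_erase hg) hAC)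
  rw [hT, Finset.mem_filter] at hiT
  refine ⟨i, hiT.1, hi1, hiT.2, fun f hf => ?_⟩
  have := hiall (S f) (hmaps f (Finset.mem_erase.2 ⟨hf, Finset.mem_univ _⟩))
  rw [hS, Finset.mem_filter, hiT.2] at this
  have := ha i hiT.1 f
  omega

end CfsgLib.ConstBlock
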