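import Cfsg.Agent.Lib.ConstBlock.Setting
import Cfsg.Agent.Lib.ConstBlock.Vectors
import Cfsg.Agent.Lib.PNilpotent.Basic
import Mathlib.GroupTheory.Subgroup.Centralizer

/-!
# Multiplicity-free restrictions force a 2-complement

An elementary abelian Sylow 2-subgroup, all of whose involution centralisers have normal
2-complements, is centralised by its normaliser when the characters of the principal block contain
each of its linear characters at most once and none but the principal one is linear and trivial on it.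
-/

set_option autoImplicit false
set_option linter.unusedSectionVars false
set_option linter.style.haveILetI false
set_option maxHeartbeats 1000000

open scoped ComplexConjugate

namespace CfsgLib.ConstBlock

open Cfsg CfsgLib.BlockReg CfsgLib.BlockPrincipal CfsgLib.Invol.BlockCol CfsgLib.Char
open scoped Classical

universe u

variable {K : Type u} [Group K] [Finite K]

/-- The hypotheses of the counting argument. -/
structure GramHyp (M : Ideal AlgInt) (P : Sylow 2 K) : Prop where
  hM : IsPModular 2 M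
  sq : ∀ a : (P : Subgroup K), a ^ 2 = 1
  cent : ∀ x ∈ (P : Subgroup K), x ≠ 1 → HasCompl (Subgroup.centralizer ({x} : Set K))
  bound : ∀ (_ : Fintype (P : Subgroup K)), ∀ η ∈ pBlock M K, ∀ (f : (P : Subgroup K) →* ℂˣ) (n : ℕ),
    ((Nat.card (P : Subgroup K) : ℂ)⁻¹ *
      ∑ a : (P : Subgroup K), (η : K → ℂ) a * conj (f a : ℂ) = n) → n ≤ 1
  lin : ∀ η ∈ pBlock M K, (η : K → ℂ) 1 = 1 → (∀ a : (P : Subgroup K), (η : K → ℂ) a = 1) →
    η = principalIrr

variable [Fact (Nat.Prime 2)] {M : Ideal AlgInt} {P : Sylow 2 K}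

theorem GramHyp.comm (h : GramHyp M P) (a b : (P : Subgroup K)) : a * b = b * a := by
  have e : ∀ x : (P : Subgroup K), x⁻¹ = x := fun x =>
    inv_eq_of_mul_eq_one_right ((pow_two x).symm.trans (h.sq x))
  conv_lhs => rw [← e (a * b), mul_inv_rev, e a, e b]

theorem GramHyp.normalizer_le (h : GramHyp M P) :
    Subgroup.normalizer ((P : Subgroup K) : Set K) ≤
      Subgroup.centralizer ((P : Subgroup K) : Set K) := by
  haveI : Fintype (P : Subgroup K) := Fintype.ofFinite _
  have hM := h.hM
  by_contra hNC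
  set r := Nat.card (P : Subgroup K) with hrdef
  have hr0 : (r : ℂ) ≠ 0 := Nat.cast_ne_zero.2 Nat.card_pos.ne'
  set E : Subgroup (MulAut (P : Subgroup K)) := (P : Subgroup K).normalizerMonoidHom.range with hE
  haveI : Fintype E := Fintype.ofFinite _
  -- elements of the normaliser
  have hmem : ∀ φ : E, ∃ n : K, n ∈ Subgroup.normalizer ((P : Subgroup K) : Set K) ∧
      ∀ a : (P : Subgroup K), (((φ : MulAut (P : Subgroup K)) a : (P : Subgroup K)) : K) =
        n * a * n⁻¹ := by
    rintro ⟨φ, ⟨n, hn⟩, rfl⟩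
    exact ⟨n, hn, fun a => rfl⟩
  have hfix : ∀ (φ : E) (x : (P : Subgroup K)), x ≠ 1 →
      (φ : MulAut (P : Subgroup K)) x = x → φ = 1 := by
    intro φ x hx hφx
    obtain ⟨n, -, hn⟩ := hmem φ
    set C := Subgroup.centralizer ({(x : K)} : Set K) with hC
    have hPC : (P : Subgroup K) ≤ C := fun a ha => Subgroup.mem_centralizer_singleton_iff.2
      (congrArg Subtype.val (h.comm ⟨a, ha⟩ x))
    have hnC : n ∈ C := by
      rw [hC, Subgroup.mem_centralizer_singleton_iff]
      have := hn x
      rw [hφx] at this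
      exact (mul_inv_eq_iff_eq_mul.1 this.symm)
    have hcz := (h.cent x x.2 fun e => hx (Subtype.ext e)).centralizes (P.subtype hPC)
      (fun a ha b hb => by
        apply Subtype.ext
        have := congrArg Subtype.val (h.comm ⟨_, ha⟩ ⟨_, hb⟩)
        simpa using this)
      (n := (⟨n, hnC⟩ : C)) (fun a ha => by
        show n * (a : K) * n⁻¹ ∈ (P : Subgroup K)
        rw [← hn ⟨(a : K), ha⟩]
        exact SetLike.coe_mem _)
    refine Subtype.ext (MulEquiv.ext fun a => Subtype.ext ?_)
    rw [hn a, show ((1 : E) : MulAut (P : Subgroup K)) a = a from rfl]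
    have := congrArg Subtype.val
      (Subgroup.mem_centralizer_iff.1 hcz ⟨(a : K), hPC a.2⟩ a.2)
    simp only [Subgroup.coe_mul] at this
    rw [← this, mul_inv_cancel_right]
  have hodd : ¬ 2 ∣ Nat.card E := by
    intro hd
    rw [hE, ← Subgroup.index_ker, Subgroup.normalizerMonoidHom_ker] at hd
    refine P.not_dvd_index (hd.trans (dvd_trans (Subgroup.index_dvd_of_le (show
      (P : Subgroup K).subgroupOf (Subgroup.normalizer ((P : Subgroup K) : Set K)) ≤
        (Subgroup.centralizer ((P : Subgroup K) : Set K)).subgroupOf _ from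
      fun a ha => Subgroup.mem_centralizer_iff.2 fun b hb =>
        congrArg Subtype.val (h.comm ⟨b, hb⟩ ⟨_, ha⟩))) ?_))
    exact Subgroup.relIndex_dvd_index_of_le Subgroup.le_normalizer
  set e := Fintype.card E with he
  have he3 : 3 ≤ e := by
    rw [← Nat.card_eq_fintype_card] at he
    have h1 : Nat.card E ≠ 1 := by
      intro h1
      refine hNC fun n hn => ?_
      have hbot : E = ⊥ := Subgroup.card_eq_one.1 h1
      have hn1 : (P : Subgroup K).normalizerMonoidHom ⟨n, hn⟩ = 1 :=
        Subgroup.mem_bot.1 (hbot ▸ ⟨⟨n, hn⟩, rfl⟩ : _ ∈ (⊥ : Subgroup (MulAut (P : Subgroup K))))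
      rw [← MonoidHom.mem_ker, Subgroup.normalizerMonoidHom_ker] at hn1
      exact hn1
    have h2 : 0 < Nat.card E := Nat.card_pos
    omega
  have heodd : ¬ 2 ∣ e := by rwa [he, ← Nat.card_eq_fintype_card]
  -- the homomorphisms to `ℂˣ`
  haveI : Finite ((P : Subgroup K) →* ℂˣ) := by
    letI : CommGroup (P : Subgroup K) :=
      { (inferInstance : Group (P : Subgroup K)) with mul_comm := h.comm }
    exact Nat.finite_of_card_ne_zero
      (by rw [CommGroup.card_monoidHom_of_hasEnoughRootsOfUnity]; exact Nat.card_pos.ne')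
  haveI : Fintype ((P : Subgroup K) →* ℂˣ) := Fintype.ofFinite _
  have hcard : Fintype.card ((P : Subgroup K) →* ℂˣ) = r := by
    letI : CommGroup (P : Subgroup K) :=
      { (inferInstance : Group (P : Subgroup K)) with mul_comm := h.comm }
    rw [← Nat.card_eq_fintype_card, CommGroup.card_monoidHom_of_hasEnoughRootsOfUnity]
  have hsumf : ∀ p : (P : Subgroup K), p ≠ 1 →
      ∑ f : (P : Subgroup K) →* ℂˣ, (f p : ℂ) = 0 := by
    intro p hp
    obtain ⟨g, hg⟩ := exists_hom_ne h.comm hp
    have h1 : (g p : ℂ) * ∑ f : (P : Subgroup K) →* ℂˣ, (f p : ℂ) =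
        ∑ f : (P : Subgroup K) →* ℂˣ, (f p : ℂ) := by
      rw [Finset.mul_sum]
      exact Fintype.sum_equiv (Equiv.mulLeft g) _ _ fun f => by simp
    have h2 : ((g p : ℂ) - 1) * ∑ f : (P : Subgroup K) →* ℂˣ, (f p : ℂ) = 0 := by
      rw [sub_mul, one_mul, h1, sub_self]
    exact (mul_eq_zero.1 h2).resolve_left
      (sub_ne_zero.2 fun e => hg (Units.ext (by simpa using e)))
  -- multiplicities
  choose a ha using fun (η : IrrCharacter K) (f : (P : Subgroup K) →* ℂˣ) =>
    exists_nat_mult (IsIrrCharacter.isCharacter η.2) (P : Subgroup K) f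
  have ha1 : ∀ η ∈ pBlock M K, ∀ f, a η f ≤ 1 := fun η hη f => h.bound _ η hη f _ (ha η f)
  have haprin : ∀ f, a principalIrr f = if f = 1 then 1 else 0 := by
    intro f
    have h1 := ha principalIrr f
    simp only [principalIrr_apply, one_mul, conj_val h.sq, sum_hom] at h1
    split_ifs at h1 ⊢
    · rw [Fintype.card_eq_nat_card, inv_mul_cancel₀ hr0] at h1
      exact_mod_cast h1.symm
    · rw [mul_zero] at h1
      exact_mod_cast h1.symm
  have hdeg : ∀ η : IrrCharacter K,
      charDegree (η : K → ℂ) = ∑ f : (P : Subgroup K) →* ℂˣ, a η f := by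
    intro η
    apply Nat.cast_injective (R := ℂ)
    push_cast
    simp only [← ha, conj_val h.sq, ← Finset.mul_sum]
    rw [Finset.sum_comm]
    simp only [← Finset.mul_sum]
    rw [Finset.sum_eq_single (1 : (P : Subgroup K)) (fun p _ hp => by rw [hsumf p hp, mul_zero])
      (fun hn => absurd (Finset.mem_univ _) hn)]
    simp [hcard, deg_cast, hr0, mul_comm, hrdef.symm, -Nat.card_eq_fintype_card]
  have hacomp : ∀ η (f : (P : Subgroup K) →* ℂˣ) (φ : E),
      a η (f.comp (φ : MulAut (P : Subgroup K)).toMonoidHom) = a η f := by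
    intro η f φ
    apply Nat.cast_injective (R := ℂ)
    rw [← ha, ← ha]
    congr 1
    refine Fintype.sum_equiv (φ : MulAut (P : Subgroup K)).toEquiv _ _ fun p => ?_
    obtain ⟨n, -, hn⟩ := hmem φ
    rw [char_conj_invariant η (p : K)
      (((φ : MulAut (P : Subgroup K)).toEquiv p : (P : Subgroup K)) : K)
      (isConj_iff.2 ⟨n, (hn p).symm⟩)]
    rfl
  have hfree : ∀ (f : (P : Subgroup K) →* ℂˣ) (φ : E), f ≠ 1 →
      f.comp (φ : MulAut (P : Subgroup K)).toMonoidHom = f → φ = 1 := by
    intro f φ hf hφ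
    by_contra hne
    apply hf
    let D : (P : Subgroup K) →* (P : Subgroup K) :=
      { toFun := fun p => p⁻¹ * (φ : MulAut (P : Subgroup K)) p
        map_one' := by simp
        map_mul' := fun p q => by
          rw [map_mul, mul_inv_rev, h.comm q⁻¹ p⁻¹]
          calc p⁻¹ * q⁻¹ * ((φ : MulAut (P : Subgroup K)) p * (φ : MulAut (P : Subgroup K)) q)
              = p⁻¹ * (q⁻¹ * (φ : MulAut (P : Subgroup K)) p) *
                  (φ : MulAut (P : Subgroup K)) q := by group
            _ = p⁻¹ * ((φ : MulAut (P : Subgroup K)) p * q⁻¹) *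
                  (φ : MulAut (P : Subgroup K)) q := by rw [h.comm q⁻¹]
            _ = _ := by group }
    have hinj : Function.Injective D := (injective_iff_map_eq_one D).2 fun p hp => by
      by_contra hp1
      exact hne (hfix φ p hp1 (inv_mul_eq_one.1 hp).symm)
    refine MonoidHom.ext fun p => ?_
    obtain ⟨q, rfl⟩ := Finite.surjective_of_injective hinj p
    have := DFunLike.congr_fun hφ q
    rw [MonoidHom.comp_apply] at this
    rw [MonoidHom.one_apply]
    show f (q⁻¹ * (φ : MulAut (P : Subgroup K)) q) = 1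
    rw [map_mul, map_inv]
    rw [show f ((φ : MulAut (P : Subgroup K)) q) = f q from this, inv_mul_cancel]
  -- column sums
  have hcol : ∀ p p' : (P : Subgroup K), p ≠ 1 →
      ∑ η ∈ pBlock M K, (η : K → ℂ) p * conj ((η : K → ℂ) p') =
        (r : ℂ) * ∑ φ : E, (if (φ : MulAut (P : Subgroup K)) p = p' then (1 : ℂ) else 0) := by
    intro p p' hp
    have hpK : (p : K) ≠ 1 := fun e => hp (Subtype.ext e)
    have hpord : ∀ q : (P : Subgroup K), ∃ j : ℕ, orderOf (q : K) = 2 ^ j := fun q => by
      obtain ⟨j, hj⟩ := P.isPGroup' q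
      obtain ⟨i, -, hi⟩ := (Nat.dvd_prime_pow Nat.prime_two).1
        (orderOf_dvd_of_pow_eq_one (congrArg Subtype.val hj : (q : K) ^ 2 ^ j = 1))
      exact ⟨i, hi⟩
    by_cases hc : IsConj (p : K) (p' : K)
    · obtain ⟨g, hg⟩ := isConj_iff.1 hc
      obtain ⟨n, hn, hnp⟩ := CfsgLib.PNilpotent.exists_normalizer_conj P ⟨⟨h.comm⟩⟩ p.2
        (g := g) (hg ▸ p'.2)
      set φ₀ : E := ⟨(P : Subgroup K).normalizerMonoidHom ⟨n, hn⟩, ⟨⟨n, hn⟩, rfl⟩⟩
      have hφ₀ : (φ₀ : MulAut (P : Subgroup K)) p = p' := Subtype.ext (hnp.trans hg)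
      rw [Finset.sum_eq_single φ₀ (fun φ _ hne => if_neg fun hφ => hne ?_)
        (fun hn => absurd (Finset.mem_univ _) hn), if_pos hφ₀, mul_one]
      · obtain ⟨L, hLn, hL, j, hj⟩ := h.cent (p : K) p.2 hpK
        haveI := hLn
        have hidx : L.index = r := by
          have hPC : (P : Subgroup K) ≤ Subgroup.centralizer ({(p : K)} : Set K) :=
            fun b hb => Subgroup.mem_centralizer_singleton_iff.2
              (congrArg Subtype.val (h.comm ⟨b, hb⟩ p))
          have h1 := (P.subtype hPC).card_eq_multiplicity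
          rw [Sylow.coe_subtype, Nat.card_congr (Subgroup.subgroupOfEquivOfLe hPC).toEquiv,
            ← L.card_mul_index, hj, Nat.factorization_mul Nat.card_pos.ne'
              (pow_ne_zero _ two_ne_zero), Finsupp.add_apply,
            Nat.factorization_eq_zero_of_not_dvd hL, zero_add, Nat.prime_two.factorization_pow,
            Finsupp.single_eq_same] at h1
          rw [hj, ← h1]
        rw [← hidx, ← sum_sq_of_complement hM (hpord p) L hL hj]
        exact Finset.sum_congr rfl fun η _ => by rw [char_conj_invariant η _ _ hc]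
      · have h1 : ((φ₀⁻¹ * φ : E) : MulAut (P : Subgroup K)) p = p := by
          rw [Subgroup.coe_mul, MulAut.mul_apply, hφ, ← hφ₀, Subgroup.coe_inv,
            MulAut.inv_apply_self]
        exact (inv_mul_eq_one.1 (hfix _ p hp h1)).symm
    · rw [Finset.sum_eq_zero (s := (Finset.univ : Finset E)) (fun φ _ => if_neg fun hφ => hc (by
        obtain ⟨n, -, hn⟩ := hmem φ
        exact isConj_iff.2 ⟨n, by rw [← hn, hφ]⟩)), mul_zero]
      haveI := hM.2.1
      obtain ⟨i, hi⟩ := hpord p
      obtain ⟨i', hi'⟩ := hpord p'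
      have h1 := CfsgLib.Blocks.block_orthogonality_section Nat.prime_two hM.2.2
        (isPBlock_B (M := M) (G := K))
        (CfsgLib.Blocks.isPPart_of_commute (Commute.one_right (p : K)) hi
          (show ¬ 2 ∣ orderOf (1 : K) by simp))
        (CfsgLib.Blocks.isPPart_of_commute (Commute.one_right (p' : K)) hi'
          (show ¬ 2 ∣ orderOf (1 : K) by simp)) hc
      rw [finsum_principal] at h1
      simpa [char_inv] using h1
  -- the difference vectors
  set v : IrrCharacter K → ((P : Subgroup K) →* ℂˣ) → ℂ :=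
    fun η f => (a η f : ℂ) - (a η 1 : ℂ) with hv
  have hvsum : ∀ η f, v η f =
      (r : ℂ)⁻¹ * ∑ p : (P : Subgroup K), (η : K → ℂ) p * ((f p : ℂ) - 1) := by
    intro η f
    simp only [hv, ← ha, ← mul_sub, ← Finset.sum_sub_distrib, conj_val h.sq, MonoidHom.one_apply,
      Units.val_one, map_one]
    rw [hrdef]
  have hgram : ∀ f g : (P : Subgroup K) →* ℂˣ, f ≠ 1 → g ≠ 1 →
      ∑ η ∈ pBlock M K, v η f * v η g =
        ∑ φ : E, (1 + if g.comp (φ : MulAut (P : Subgroup K)).toMonoidHom = f then (1 : ℂ) else 0) := by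
    intro f g hf hg
    have hreal : ∀ η, conj (v η g) = v η g := fun η => by simp [hv]
    have h1 : ∑ η ∈ pBlock M K, v η f * v η g = ((r : ℂ)⁻¹ * (r : ℂ)⁻¹) *
        ∑ p : (P : Subgroup K), ∑ p' : (P : Subgroup K), ((f p : ℂ) - 1) * ((g p' : ℂ) - 1) *
          ∑ η ∈ pBlock M K, (η : K → ℂ) p * conj ((η : K → ℂ) p') := by
      rw [Finset.sum_comm (s := (Finset.univ : Finset (P : Subgroup K)))
        (t := (Finset.univ : Finset (P : Subgroup K)))]
      rw [Finset.sum_congr rfl (fun η _ => by rw [hreal η] :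
        ∀ η ∈ pBlock M K, v η f * v η g = v η f * conj (v η g))]
      simp only [hvsum, map_mul, map_inv₀, map_natCast, map_sum, map_sub, map_one, conj_val h.sq,
        Finset.mul_sum, Finset.sum_mul]
      rw [Finset.sum_comm]
      refine Finset.sum_congr rfl fun p _ => ?_
      rw [Finset.sum_comm]
      exact Finset.sum_congr rfl fun p' _ => Finset.sum_congr rfl fun η _ => by ring
    rw [h1]
    have h2 : ∀ p p' : (P : Subgroup K), ((f p : ℂ) - 1) * ((g p' : ℂ) - 1) *
        ∑ η ∈ pBlock M K, (η : K → ℂ) p * conj ((η : K → ℂ) p') =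
        (r : ℂ) * ∑ φ : E, (if (φ : MulAut (P : Subgroup K)) p = p' then
          ((f p : ℂ) - 1) * ((g p' : ℂ) - 1) else 0) := by
      intro p p'
      by_cases hp : p = 1
      · subst hp; simp
      · rw [hcol p p' hp, mul_left_comm, Finset.mul_sum]
        congr 1
        exact Finset.sum_congr rfl fun φ _ => by split_ifs <;> simp
    simp only [h2, ← Finset.mul_sum]
    rw [Finset.sum_congr rfl (fun p _ => Finset.sum_comm), Finset.sum_comm, ← mul_assoc,
      mul_assoc (r : ℂ)⁻¹, inv_mul_cancel₀ hr0, mul_one, Finset.mul_sum]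
    refine Finset.sum_congr rfl fun φ _ => ?_
    simp only [Finset.sum_ite_eq, Finset.mem_univ, if_true]
    rw [Finset.sum_congr rfl (g := fun p : (P : Subgroup K) =>
      ((f * g.comp (φ : MulAut (P : Subgroup K)).toMonoidHom) p : ℂ) - (f p : ℂ) -
        ((g.comp (φ : MulAut (P : Subgroup K)).toMonoidHom) p : ℂ) +
        ((1 : (P : Subgroup K) →* ℂˣ) p : ℂ)) (fun p _ => by simp; ring)]
    rw [Finset.sum_add_distrib, Finset.sum_sub_distrib, Finset.sum_sub_distrib, sum_hom, sum_hom,
      sum_hom, sum_hom, if_neg hf, if_pos rfl]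
    have hgφ : g.comp (φ : MulAut (P : Subgroup K)).toMonoidHom ≠ 1 := by
      intro e
      refine hg (MonoidHom.ext fun p => ?_)
      obtain ⟨q, rfl⟩ := (φ : MulAut (P : Subgroup K)).surjective p
      exact DFunLike.congr_fun e q
    rw [if_neg hgφ]
    have hiff : f * g.comp (φ : MulAut (P : Subgroup K)).toMonoidHom = 1 ↔
        g.comp (φ : MulAut (P : Subgroup K)).toMonoidHom = f := by
      constructor
      · intro e
        refine MonoidHom.ext fun p => ?_
        have e1 : f p * (g.comp (φ : MulAut (P : Subgroup K)).toMonoidHom) p = 1 :=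
          DFunLike.congr_fun e p
        have e2 : f p * f p = 1 := by rw [← map_mul, ← pow_two, h.sq, map_one]
        exact mul_left_cancel (e1.trans e2.symm)
      · intro e
        refine MonoidHom.ext fun p => ?_
        rw [MonoidHom.mul_apply, e, MonoidHom.one_apply, ← map_mul, ← pow_two, h.sq, map_one]
    rw [← Nat.card_eq_fintype_card, ← hrdef]
    by_cases hq : f * g.comp (φ : MulAut (P : Subgroup K)).toMonoidHom = 1
    · rw [if_pos hq, if_pos (hiff.1 hq)]
      field_simp
      ring
    · rw [if_neg hq, if_neg (fun e => hq (hiff.2 e))]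
      field_simp
      ring
  have hdv : ∀ f : (P : Subgroup K) →* ℂˣ, ∑ η ∈ pBlock M K, (η : K → ℂ) 1 * v η f = 0 := by
    intro f
    simp only [hvsum, Finset.mul_sum]
    rw [Finset.sum_comm]
    refine Finset.sum_eq_zero fun p _ => ?_
    by_cases hp : p = 1
    · subst hp; simp
    · rw [Finset.sum_congr rfl (g := fun η : IrrCharacter K => ((r : ℂ)⁻¹ * ((f p : ℂ) - 1)) *
        ((η : K → ℂ) 1 * (η : K → ℂ) p)) (fun η _ => by ring), ← Finset.mul_sum,
        orth_one hM (g := (p : K)) (by
          rw [orderOf_eq_two (congrArg Subtype.val (h.sq p)) fun e => hp (Subtype.ext e)]),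
        mul_zero]
  obtain ⟨j, hj⟩ := P.isPGroup'.exists_card_eq
  have hone : ∃ f : (P : Subgroup K) →* ℂˣ, f ≠ 1 := by
    by_contra hcon
    push Not at hcon
    refine hNC fun n _ => ?_
    rw [Subgroup.mem_centralizer_iff]
    intro b hb
    have hb1 : b = 1 := by
      by_contra hb1
      obtain ⟨g, hg⟩ := exists_hom_ne h.comm (a := ⟨b, hb⟩) fun e => hb1 (congrArg Subtype.val e)
      exact hg (by rw [hcon g]; rfl)
    rw [hb1, one_mul, mul_one]
  have hgramZ : ∀ f g : (P : Subgroup K) →* ℂˣ, f ≠ 1 → g ≠ 1 →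
      ∑ η ∈ pBlock M K, ((a η f : ℤ) - a η 1) * ((a η g : ℤ) - a η 1) =
        (Fintype.card E : ℤ) + ((Finset.univ.filter fun φ : E =>
          g.comp (φ : MulAut (P : Subgroup K)).toMonoidHom = f).card : ℤ) := by
    intro f g hf hg
    have h1 := hgram f g hf hg
    rw [Finset.sum_add_distrib, Finset.sum_boole, Finset.sum_const, Finset.card_univ,
      nsmul_one] at h1
    simp only [hv] at h1
    exact_mod_cast h1
  have hdvZ : ∀ f : (P : Subgroup K) →* ℂˣ, f ≠ 1 →
      ∑ η ∈ pBlock M K, (charDegree (η : K → ℂ) : ℤ) * ((a η f : ℤ) - a η 1) = 0 := by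
    intro f _
    have h1 := hdv f
    simp only [hv, ← deg_cast] at h1
    exact_mod_cast h1
  obtain ⟨η, hηB, hη1, hη1T, hzero⟩ := exists_trivial_row (pBlock M K)
    (principalIrr : IrrCharacter K) (principal_mem hM) 1 (fun η => charDegree (η : K → ℂ)) a
    (fun (φ : E) f => f.comp (φ : MulAut (P : Subgroup K)).toMonoidHom) j he3 heodd
    (hcard.trans hj) hone ha1 haprin (fun η _ => hdeg η) ⟨1, fun f => rfl⟩
    (fun η _ f φ => hacomp η f φ)
    (fun φ f hf e => hf (MonoidHom.ext fun p => by
      obtain ⟨q, rfl⟩ := (φ : MulAut (P : Subgroup K)).surjective p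
      exact DFunLike.congr_fun e q))
    (fun f hf φ ψ hφψ => mul_inv_eq_one.1 (hfree f _ hf (MonoidHom.ext fun p => by
      have h1 := DFunLike.congr_fun (show f.comp (φ : MulAut (P : Subgroup K)).toMonoidHom =
        f.comp (ψ : MulAut (P : Subgroup K)).toMonoidHom from hφψ)
        ((((ψ⁻¹ : E) : MulAut (P : Subgroup K))) p)
      simpa using h1)))
    hgramZ hdvZ
  have hd : charDegree (η : K → ℂ) = 1 := by
    rw [hdeg η, Finset.sum_eq_single (1 : (P : Subgroup K) →* ℂˣ) (fun f _ hf => hzero f hf)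
      (fun hn => absurd (Finset.mem_univ _) hn), hη1T]
  have hd1 : (η : K → ℂ) 1 = 1 := by rw [← deg_cast, hd, Nat.cast_one]
  obtain ⟨ω, hω⟩ := IsCharacter.exists_linear (IsIrrCharacter.isCharacter η.2) hd1
  refine hη1 (h.lin η hηB hd1 fun p => ?_)
  have hres : ω.comp (P : Subgroup K).subtype = 1 := by
    by_contra hne'
    have h1 := ha η (ω.comp (P : Subgroup K).subtype)
    rw [hzero _ hne', Finset.sum_congr rfl (g := fun _ => (1 : ℂ)) (fun q _ => by
      rw [conj_val h.sq, hω]
      rcases val_sq h.sq (ω.comp (P : Subgroup K).subtype) q with hq | hq <;>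
        simp only [MonoidHom.comp_apply, Subgroup.coe_subtype] at hq ⊢ <;> rw [hq] <;> norm_num),
      Finset.sum_const, Finset.card_univ, nsmul_one, Fintype.card_eq_nat_card,
      inv_mul_cancel₀ hr0] at h1
    simp at h1
  rw [hω, show ω (p : K) = 1 from DFunLike.congr_fun hres p]
  rfl

end CfsgLib.ConstBlock
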