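import Cfsg.Agent.Lib.ConstBlock.Gram
import Mathlib.GroupTheory.Transfer
import Mathlib.RingTheory.RootsOfUnity.Basic

/-!
# Centralisers of nontrivial 2-subgroups have normal 2-complements

By downward induction on the 2-subgroup: the centraliser modulo the subgroup satisfies the hypotheses
of the counting argument.
-/

set_option autoImplicit false
set_option linter.unusedSectionVars false
set_option linter.style.haveILetI false
set_option maxHeartbeats 1000000

open scoped ComplexConjugate

namespace CfsgLib.ConstBlock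

open Cfsg CfsgLib.BlockReg CfsgLib.BlockPrincipal CfsgLib.Invol.BlockCol CfsgLib.Char
open scoped Classical

universe u

variable {G : Type u} [Group G] [Finite G] [Fact (Nat.Prime 2)] {M : Ideal AlgInt} {u : G} {k : ℂ}

/-- Normal 2-complements pass to homomorphic images. -/
theorem HasCompl.of_surjective {X Y : Type u} [Group X] [Finite X] [Group Y] [Finite Y]
    (f : X →* Y) (hf : Function.Surjective f) (h : HasCompl X) : HasCompl Y := by
  obtain ⟨L, hLn, hL, j, hj⟩ := h
  refine ⟨L.map f, hLn.map f hf, fun hd => hL (hd.trans (L.card_map_dvd f)), ?_⟩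
  obtain ⟨i, -, hi⟩ := (Nat.dvd_prime_pow Nat.prime_two).1 (hj ▸ L.index_map_dvd hf)
  exact ⟨i, hi⟩

/-- Averages are unchanged by surjective homomorphisms. -/
theorem avg_comp_surjective {X Y : Type*} [Group X] [Group Y] [Fintype X] [Fintype Y]
    (f : X →* Y) (hf : Function.Surjective f) (F : Y → ℂ) :
    (Nat.card X : ℂ)⁻¹ * ∑ x, F (f x) = (Nat.card Y : ℂ)⁻¹ * ∑ y, F y := by
  have h1 : ∀ y : Y, ∑ x, F (f x * y) = ∑ x, F (f x) := fun y => by
    obtain ⟨x₀, rfl⟩ := hf y
    exact Fintype.sum_equiv (Equiv.mulRight x₀) _ _ fun x => by simp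
  have h2 : (Nat.card Y : ℂ) * ∑ x, F (f x) = (Nat.card X : ℂ) * ∑ y, F y := by
    rw [Nat.card_eq_fintype_card, Nat.card_eq_fintype_card]
    calc (Fintype.card Y : ℂ) * ∑ x, F (f x) = ∑ y, ∑ x, F (f x * y) := by
          simp only [h1, Finset.sum_const, Finset.card_univ, nsmul_eq_mul]
      _ = ∑ x : X, ∑ y, F y := by
          rw [Finset.sum_comm]
          exact Finset.sum_congr rfl fun x _ => Fintype.sum_equiv (Equiv.mulLeft (f x)) _ _ fun y => rfl
      _ = (Fintype.card X : ℂ) * ∑ y, F y := by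
          simp only [Finset.sum_const, Finset.card_univ, nsmul_eq_mul]
  have hX : (Nat.card X : ℂ) ≠ 0 := Nat.cast_ne_zero.2 Nat.card_pos.ne'
  have hY : (Nat.card Y : ℂ) ≠ 0 := Nat.cast_ne_zero.2 Nat.card_pos.ne'
  field_simp
  linear_combination h2

/-- A 2-element normalising a Sylow 2-subgroup lies in it. -/
theorem mem_sylow_of_normalizer {K : Type u} [Group K] [Finite K] (P : Sylow 2 K) {s : K}
    (hs : ∃ j : ℕ, orderOf s = 2 ^ j) (hsN : s ∈ Subgroup.normalizer ((P : Subgroup K) : Set K)) :
    s ∈ (P : Subgroup K) := by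
  obtain ⟨j, hj⟩ := hs
  have hZ : IsPGroup 2 (Subgroup.zpowers s) := IsPGroup.of_card (by rw [Nat.card_zpowers, hj])
  have := P.is_maximal' (hZ.to_sup_of_normal_right' P.isPGroup'
    (Subgroup.zpowers_le.2 hsN)) le_sup_right
  exact this ▸ (le_sup_left : Subgroup.zpowers s ≤ _) (Subgroup.mem_zpowers s)

/-- Every 2-element has a conjugate in a given Sylow 2-subgroup. -/
theorem exists_conj_mem_sylow {K : Type u} [Group K] [Finite K] (P : Sylow 2 K) {s : K}
    (hs : ∃ j : ℕ, orderOf s = 2 ^ j) : ∃ c : K, c * s * c⁻¹ ∈ (P : Subgroup K) := by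
  obtain ⟨j, hj⟩ := hs
  have hZ : IsPGroup 2 (Subgroup.zpowers s) := IsPGroup.of_card (by rw [Nat.card_zpowers, hj])
  obtain ⟨Q, hQ⟩ := hZ.exists_le_sylow
  obtain ⟨c, hc⟩ := MulAction.exists_smul_eq K Q P
  refine ⟨c, ?_⟩
  rw [← hc, Sylow.coe_subgroup_smul]
  exact Subgroup.smul_mem_pointwise_smul s (MulAut.conj c) _ (hQ (Subgroup.mem_zpowers s))

/-- No nontrivial linear character of `C(A)` in its principal block is seen by a regular element. -/
theorem Hyp.twist_false (h : Hyp M u k) {A : Subgroup G} (hA : IsPGroup 2 A) (hA1 : A ≠ ⊥)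
    (ω : Subgroup.centralizer (A : Set G) →* ℂˣ)
    (hω : (⟨fun g => (ω g : ℂ), isIrrCharacter_linear ω⟩ :
      IrrCharacter (Subgroup.centralizer (A : Set G))) ∈
        principalBlock M (Subgroup.centralizer (A : Set G)))
    (x : Subgroup.centralizer (A : Set G)) (hx : ¬ 2 ∣ orderOf x) (hne : ω x ≠ 1) : False := by
  cases nonempty_fintype G
  have hM := h.hM
  let H : Subgroup G := Subgroup.centralizer (A : Set G)
  let σ : IrrCharacter H → IrrCharacter H :=
    fun ψ => ⟨fun g => (ω g : ℂ) * (ψ : H → ℂ) g, IsIrrCharacter.linear_mul ψ.2 ω⟩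
  have hω' : ∀ g : H, MemLocalIdeal M
      ((csize g : ℂ) * ((ω g : ℂ) - 1)) := by
    intro g
    have h1 : MemLocalIdeal M (centralChar (fun _ : H => (1 : ℂ)) g -
        centralChar (fun g : H => (ω g : ℂ)) g) := hω g
    have e1 : centralChar (fun _ : H => (1 : ℂ)) g = (csize g : ℂ) := by
      simp [centralChar, csize]
    have e2 : centralChar (fun g : H => (ω g : ℂ)) g = (csize g : ℂ) * (ω g : ℂ) := by
      simp [centralChar, csize]
    rw [e1, e2] at h1
    have := memIdeal_neg h1
    rw [neg_sub] at this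
    rwa [mul_sub, mul_one]
  have hmaps : ∀ ψ ∈ pBlock M H, σ ψ ∈ pBlock M H := by
    intro ψ hψ
    rw [mem_pBlock] at hψ ⊢
    intro g
    have h1 := hψ g
    have e1 : centralChar (fun _ : H => (1 : ℂ)) g = (csize g : ℂ) := by
      simp [centralChar, csize]
    have e2 : centralChar (σ ψ : H → ℂ) g = centralChar (ψ : H → ℂ) g * (ω g : ℂ) := by
      show centralChar (fun g : H => (ω g : ℂ) * (ψ : H → ℂ) g) g = _
      simp only [centralChar, map_one, Units.val_one, one_mul]
      ring
    rw [e1] at h1 ⊢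
    rw [e2]
    have h2 := memIdeal_sub hM (memIdeal_mul_right hM h1
      (memRing_algInt hM (show IsIntegral ℤ (ω g : ℂ) from
        isIntegral_char (⟨fun g => (ω g : ℂ), isIrrCharacter_linear ω⟩ : IrrCharacter H) g)))
      (hω' g)
    convert h2 using 1
    ring
  have hinj : Set.InjOn σ (pBlock M H : Set (IrrCharacter H)) := by
    intro ψ _ φ _ e
    refine Subtype.ext (funext fun g => mul_left_cancel₀ (ω g).ne_zero ?_)
    exact congrFun (congrArg Subtype.val e) g
  have hbij : (pBlock M H).image σ = pBlock M H :=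
    Finset.eq_of_subset_of_card_le (Finset.image_subset_iff.2 hmaps)
      (le_of_eq (Finset.card_image_of_injOn hinj).symm)
  have hzero : blockCoeff (principalBlock M H) x = 0 := by
    rw [blockCoeff, finsum_principal]
    refine mul_eq_zero_of_right _ ?_
    set T := ∑ ψ ∈ pBlock M H, (ψ : H → ℂ) 1 * conj ((ψ : H → ℂ) x)
    have h1 : T = conj (ω x : ℂ) * T := by
      conv_lhs => rw [show T = ∑ ψ ∈ (pBlock M H).image σ, (ψ : H → ℂ) 1 * conj ((ψ : H → ℂ) x) by
        rw [hbij]]
      rw [Finset.sum_image hinj, Finset.mul_sum]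
      refine Finset.sum_congr rfl fun ψ _ => ?_
      show ((ω 1 : ℂ) * (ψ : H → ℂ) 1) * conj ((ω x : ℂ) * (ψ : H → ℂ) x) = _
      rw [map_one, Units.val_one, map_mul]
      ring
    have h2 : (1 - conj (ω x : ℂ)) * T = 0 := by rw [sub_mul, one_mul, ← h1, sub_self]
    refine (mul_eq_zero.1 h2).resolve_left fun h3 => ?_
    apply hne
    apply Units.ext
    rw [sub_eq_zero] at h3
    have := congrArg conj h3
    rw [map_one, Complex.conj_conj] at this
    rw [Units.val_one, ← this]
  obtain ⟨⟨a, ha⟩, hane⟩ := A.ne_bot_iff_exists_ne_one.1 hA1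
  have ha1 : a ≠ 1 := fun e => hane (Subtype.ext e)
  have hc : Commute a (x : G) := Subgroup.mem_centralizer_iff.1 x.2 _ ha
  have h1 := h.coeff_one (x := (x : G)) (fun e => hx (by rwa [Subgroup.orderOf_coe] at e))
    (orderOf_eq_two (h.sq_eq_one hA ha) ha1) hc
  have h2 := memIdeal_sub hM h1 (blockCoeff_congr_centralizer hM A hA x)
  rw [hzero] at h2
  refine not_memIdeal_one hM ?_
  have := memIdeal_neg h2
  convert this using 1
  ring

/-- Multiplicities in the principal block of `C(A) / A` are at most one. -/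
theorem Hyp.bound (h : Hyp M u k) (P : Sylow 2 G) [Fintype (P : Subgroup G)] {A : Subgroup G}
    (hAP : A ≤ (P : Subgroup G)) (hA1 : A ≠ ⊥)
    [(A.subgroupOf (Subgroup.centralizer (A : Set G))).Normal]
    (hle : (P : Subgroup G) ≤ Subgroup.centralizer (A : Set G))
    (η : IrrCharacter (Subgroup.centralizer (A : Set G) ⧸
      A.subgroupOf (Subgroup.centralizer (A : Set G))))
    (hη : η ∈ principalBlock M (Subgroup.centralizer (A : Set G) ⧸
      A.subgroupOf (Subgroup.centralizer (A : Set G))))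
    (f : (P : Subgroup G) →* ℂˣ) (hf : ∀ a : (P : Subgroup G), (a : G) ∈ A → f a = 1) (n : ℕ)
    (hn : (Nat.card (P : Subgroup G) : ℂ)⁻¹ * ∑ a : (P : Subgroup G),
      η.1 (QuotientGroup.mk (⟨(a : G), hle a.2⟩ : Subgroup.centralizer (A : Set G))) *
        conj (f a : ℂ) = n) : n ≤ 1 := by
  cases nonempty_fintype G
  have hM := h.hM
  set H := Subgroup.centralizer (A : Set G) with hH
  have hA : IsPGroup 2 A := P.isPGroup'.to_le hAP
  set A' := A.subgroupOf H with hA'
  have hA'c : A' ≤ Subgroup.center H := fun z hz => Subgroup.mem_center_iff.2 fun g =>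
    Subtype.ext (Subgroup.mem_centralizer_iff.1 g.2 (z : G) hz).symm
  have hA'2 : IsPGroup 2 A' := hA.comap_subtype
  obtain ⟨a0, ha0⟩ := A.ne_bot_iff_exists_ne_one.1 hA1
  set b0 : (P : Subgroup G) := ⟨a0, hAP a0.2⟩ with hb0
  obtain ⟨g0, hg0⟩ := exists_hom_ne (A := (P : Subgroup G))
    (fun a b => Subtype.ext (h.comm P.isPGroup' a.2 b.2)) (a := b0)
    (fun e => ha0 (Subtype.ext (show (a0 : G) = ((1 : A) : G) from
      congrArg (fun b : (P : Subgroup G) => (b : G)) e)))
  have hsqP : ∀ a : (P : Subgroup G), a ^ 2 = 1 := fun a =>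
    Subtype.ext (h.sq_eq_one P.isPGroup' a.2)
  set PH := P.subtype hle with hPH
  have hmemPH : ∀ a : H, a ∈ (PH : Subgroup H) ↔ (a : G) ∈ (P : Subgroup G) := fun a => by
    rw [hPH, Sylow.coe_subtype, Subgroup.mem_subgroupOf]
  let ι : (PH : Subgroup H) →* (P : Subgroup G) :=
    { toFun := fun a => ⟨((a : H) : G), (hmemPH a).1 a.2⟩
      map_one' := rfl
      map_mul' := fun a b => rfl }
  let ϕ : (PH : Subgroup H) →* rootsOfUnity 2 ℂ :=
    (g0.comp ι).codRestrict _ fun a => by
      rw [mem_rootsOfUnity, ← map_pow]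
      rw [show a ^ 2 = 1 from Subtype.ext (Subtype.ext (h.sq_eq_one P.isPGroup' ((hmemPH a).1 a.2))),
        map_one]
  let μ : H →* ℂˣ := (rootsOfUnity 2 ℂ).subtype.comp (MonoidHom.transfer ϕ)
  have hμsq : ∀ g : H, (μ g) ^ 2 = 1 := fun g => (MonoidHom.transfer ϕ g).2
  have hμreg : ∀ g : H, ¬ 2 ∣ orderOf g → μ g = 1 := by
    intro g hg
    have h1 : orderOf (μ g) ∣ 2 := orderOf_dvd_of_pow_eq_one (hμsq g)
    have h2 : orderOf (μ g) ∣ orderOf g := orderOf_map_dvd μ g
    rcases (Nat.dvd_prime Nat.prime_two).1 h1 with h3 | h3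
    · exact orderOf_eq_one_iff.1 h3
    · exact absurd (h3 ▸ h2) hg
  have hμ0 : μ (⟨(a0 : G), hle b0.2⟩ : H) = g0 b0 := by
    set z : H := ⟨(a0 : G), hle b0.2⟩
    have hz : z ∈ Subgroup.center H := hA'c (show (z : G) ∈ A from a0.2)
    have hzP : z ∈ (PH : Subgroup H) := (hmemPH z).2 b0.2
    have key : ∀ (k : ℕ) (g₀ : H), g₀⁻¹ * z ^ k * g₀ ∈ (PH : Subgroup H) →
        g₀⁻¹ * z ^ k * g₀ = z ^ k := fun k g₀ _ => by
      rw [mul_assoc, ← (Subgroup.mem_center_iff.1 (Subgroup.pow_mem _ hz k) g₀),
        inv_mul_cancel_left]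
    show ((MonoidHom.transfer ϕ z : rootsOfUnity 2 ℂ) : ℂˣ) = _
    rw [MonoidHom.transfer_eq_pow ϕ z key]
    show g0 (ι _) = g0 b0
    congr 1
    apply Subtype.ext
    show ((z ^ (PH : Subgroup H).index : H) : G) = (a0 : G)
    have hodd : ¬ 2 ∣ (PH : Subgroup H).index := PH.not_dvd_index
    obtain ⟨m, hm⟩ : ∃ m, (PH : Subgroup H).index = 2 * m + 1 :=
      ⟨(PH : Subgroup H).index / 2, by omega⟩
    rw [hm, pow_succ, pow_mul, show z ^ 2 = 1 from Subtype.ext (h.sq_eq_one hA a0.2), one_pow,
      one_mul]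
  -- the twisted character and its lift
  have hψ := linear_mul_mem hM μ hμreg
    (inflIrr_mem hM A' hA'c hA'2 η hη)
  obtain ⟨χ, hχ, hle'⟩ := exists_mult_le hM A hA _ hψ
  set f' : (P : Subgroup G) →* ℂˣ := (μ.comp (Subgroup.inclusion hle)) * f with hf'
  have hf'1 : f' ≠ 1 := by
    intro e
    apply hg0
    have h1 : μ (Subgroup.inclusion hle b0) * f b0 = 1 := DFunLike.congr_fun e b0
    rw [hf b0 a0.2, mul_one] at h1
    rw [← hμ0]
    exact h1
  obtain ⟨b, hb⟩ := exists_nat_mult (IsIrrCharacter.isCharacter χ.2) (P : Subgroup G) f'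
  haveI : Fintype ((P : Subgroup G).subgroupOf H) := Fintype.ofFinite _
  let eq := Subgroup.subgroupOfEquivOfLe hle
  have hnb : n ≤ b := by
    refine hle' ((P : Subgroup G).subgroupOf H) (f'.comp eq.toMonoidHom) n b ?_ ?_
    · rw [← hn, Nat.card_congr eq.toEquiv]
      congr 1
      refine Fintype.sum_equiv eq.toEquiv _ _ fun r => ?_
      show (μ (r : H) : ℂ) * η.1 (QuotientGroup.mk (r : H)) *
          conj ((μ (Subgroup.inclusion hle (eq r)) * f (eq r) : ℂˣ) : ℂ) =
        η.1 (QuotientGroup.mk (r : H)) * conj (f (eq r) : ℂ)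
      rw [show Subgroup.inclusion hle (eq r) = (r : H) from rfl, Units.val_mul, map_mul]
      rcases sq_eq_one_iff.1 (show ((μ (r : H) : ℂˣ) : ℂ) ^ 2 = 1 by
        rw [← Units.val_pow_eq_pow_val, hμsq, Units.val_one]) with e | e <;> rw [e] <;> simp
    · rw [← hb, Nat.card_congr eq.toEquiv]
      congr 1
      exact Fintype.sum_equiv eq.toEquiv _ _ fun r => rfl
  refine hnb.trans ?_
  by_cases hp : χ = principalIrr
  · subst hp
    simp only [principalIrr_apply, one_mul, conj_val hsqP, sum_hom, if_neg hf'1, mul_zero] at hb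
    have : b = 0 := by exact_mod_cast hb.symm
    omega
  · rw [h.mult_one (mem_nonPr.2 ⟨hp, mem_pBlock.2 hχ⟩) P f' hf'1] at hb
    exact le_of_eq (by exact_mod_cast hb.symm)

/-- Centralisers of nontrivial subgroups of a Sylow 2-subgroup have normal 2-complements. -/
theorem Hyp.hasCompl (h : Hyp M u k) (P : Sylow 2 G) :
    ∀ A : Subgroup G, A ≤ (P : Subgroup G) → A ≠ ⊥ →
      HasCompl (Subgroup.centralizer (A : Set G)) := by
  suffices key : ∀ (n : ℕ) (A : Subgroup G), A ≤ (P : Subgroup G) → A ≠ ⊥ →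
      Nat.card (P : Subgroup G) - Nat.card A < n → HasCompl (Subgroup.centralizer (A : Set G)) from
    fun A hAP hA1 => key _ A hAP hA1 (Nat.lt_succ_self _)
  intro n
  induction n with
  | zero => intro A _ _ hlt; omega
  | succ n ih =>
    intro A hAP hA1 hlt
    haveI : Fintype (P : Subgroup G) := Fintype.ofFinite _
    have hM := h.hM
    have hA : IsPGroup 2 A := P.isPGroup'.to_le hAP
    set H := Subgroup.centralizer (A : Set G) with hH
    have hle : (P : Subgroup G) ≤ H := fun a ha => Subgroup.mem_centralizer_iff.2 fun b hb =>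
      h.comm P.isPGroup' (hAP hb) ha
    set A' := A.subgroupOf H with hA'
    have hA'c : A' ≤ Subgroup.center H := fun z hz => Subgroup.mem_center_iff.2 fun g =>
      Subtype.ext (Subgroup.mem_centralizer_iff.1 g.2 (z : G) hz).symm
    have hA'2 : IsPGroup 2 A' := hA.comap_subtype
    haveI hA'n : A'.Normal := ⟨fun z hz g => by
      have h1 := Subgroup.mem_center_iff.1 (hA'c hz) g
      rwa [h1, mul_inv_cancel_right]⟩
    have hmemA' : ∀ z : H, z ∈ A' ↔ (z : G) ∈ A := fun z => Subgroup.mem_subgroupOf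
    have hA'sq : ∀ z ∈ A', z ^ 2 = (1 : H) := fun z hz =>
      Subtype.ext (h.sq_eq_one hA ((hmemA' z).1 hz))
    set PH := P.subtype hle with hPH
    have hmemPH : ∀ a : H, a ∈ (PH : Subgroup H) ↔ (a : G) ∈ (P : Subgroup G) := fun a => by
      rw [hPH, Sylow.coe_subtype, Subgroup.mem_subgroupOf]
    set π := QuotientGroup.mk' A' with hπ
    have hπs : Function.Surjective π := QuotientGroup.mk'_surjective A'
    set PK := PH.mapSurjective hπs with hPK
    have hmemPK : ∀ y : H ⧸ A', y ∈ (PK : Subgroup (H ⧸ A')) ↔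
        ∃ a ∈ (PH : Subgroup H), π a = y := fun y => by
      rw [hPK, Sylow.coe_mapSurjective, Subgroup.mem_map]
    have hπeq : ∀ a b : H, π a = π b → ∃ z ∈ A', a = b * z := fun a b e =>
      ⟨b⁻¹ * a, QuotientGroup.eq.1 e.symm, by rw [mul_inv_cancel_left]⟩
    -- the hypotheses of the counting argument
    have hgram : GramHyp M PK := by
      refine ⟨hM, fun y => ?_, fun y hy hy1 => ?_, fun _ η hη f m hm => ?_, fun η hη hd htriv => ?_⟩
      · obtain ⟨a, ha, hay⟩ := (hmemPK _).1 y.2
        refine Subtype.ext ?_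
        rw [SubmonoidClass.coe_pow, ← hay, ← map_pow,
          show a ^ 2 = 1 from Subtype.ext (h.sq_eq_one P.isPGroup' ((hmemPH a).1 ha)), map_one]
        rfl
      · obtain ⟨x₀, hx₀, rfl⟩ := (hmemPK y).1 hy
        have hx₀P : (x₀ : G) ∈ (P : Subgroup G) := (hmemPH x₀).1 hx₀
        have hx₀A : (x₀ : G) ∉ A := fun e =>
          hy1 ((QuotientGroup.eq_one_iff x₀).2 ((hmemA' x₀).2 e))
        set A2 := A ⊔ Subgroup.zpowers (x₀ : G) with hA2
        have hA2P : A2 ≤ (P : Subgroup G) := sup_le hAP (Subgroup.zpowers_le.2 hx₀P)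
        have hlt2 : Nat.card A < Nat.card A2 := by
          refine lt_of_le_of_ne (Subgroup.card_le_of_le le_sup_left) fun e => hx₀A ?_
          rw [Subgroup.eq_of_le_of_card_ge (le_sup_left : A ≤ A2) e.ge]
          exact le_sup_right (a := A) (Subgroup.mem_zpowers (x₀ : G))
        have hA21 : A2 ≠ ⊥ := fun e => hA1 (le_bot_iff.1 (e ▸ (le_sup_left : A ≤ A2)))
        have hcompl := ih A2 hA2P hA21 (by
          have := Subgroup.card_le_of_le hA2P
          omega)
        have hsub : Subgroup.centralizer (A2 : Set G) ≤ H :=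
          Subgroup.centralizer_le (SetLike.coe_subset_coe.2 le_sup_left)
        let F : Subgroup.centralizer (A2 : Set G) →* Subgroup.centralizer ({π x₀} : Set (H ⧸ A')) :=
          (π.comp (Subgroup.inclusion hsub)).codRestrict _ fun g => by
            rw [Subgroup.mem_centralizer_singleton_iff, MonoidHom.comp_apply, ← map_mul, ← map_mul]
            refine congrArg π (Subtype.ext ?_)
            exact (Subgroup.mem_centralizer_iff.1 g.2 (x₀ : G)
              ((le_sup_right : _ ≤ A2) (Subgroup.mem_zpowers (x₀ : G)))).symm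
        refine hcompl.of_surjective F fun w => ?_
        obtain ⟨g, hg⟩ := hπs w.1
        have hgc : π (g * x₀ * g⁻¹) = π x₀ := by
          have h1 := Subgroup.mem_centralizer_singleton_iff.1 w.2
          rw [← hg] at h1
          rw [map_mul, map_mul, map_inv, h1, mul_inv_cancel_right]
        -- `g` commutes with `x₀`
        set D := (Subgroup.centralizer ({π x₀} : Set (H ⧸ A'))).comap π with hD
        have hDmem : ∀ d : H, d ∈ D → ∃ z ∈ A', d * x₀ * d⁻¹ = x₀ * z := fun d hd => hπeq _ _ (by
          have h1 := Subgroup.mem_centralizer_singleton_iff.1 (Subgroup.mem_comap.1 hd)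
          rw [map_mul, map_mul, map_inv, h1, mul_inv_cancel_right])
        have hgD : g ∈ D := by rw [hD, Subgroup.mem_comap, hg]; exact w.2
        have hcomm : Commute g x₀ := by
          obtain ⟨s, t, hst, hstc, hs2, ht⟩ := CfsgLib.Blocks.exists_isPPart Nat.prime_two g
          have hsD : s ∈ D := by
            have hp : IsPPart 2 g s := ⟨t, hst, hstc, hs2, ht⟩
            exact Subgroup.zpowers_le.2 hgD
              (CfsgLib.Blocks.IsPPart.mem_zpowers Nat.prime_two hp)
          have htD : t ∈ D := by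
            have : t = s⁻¹ * g := by rw [← hst, inv_mul_cancel_left]
            rw [this]
            exact mul_mem (inv_mem hsD) hgD
          have ht0 : Commute t x₀ := by
            obtain ⟨z, hz, hzt⟩ := hDmem t htD
            exact commute_of_conj_mul hzt (Subgroup.mem_center_iff.1 (hA'c hz) t) (hA'sq z hz) ht
          have hPD : (PH : Subgroup H) ≤ D := fun a ha => by
            rw [hD, Subgroup.mem_comap, Subgroup.mem_centralizer_singleton_iff, ← map_mul, ← map_mul]
            exact congrArg π (Subtype.ext (h.comm P.isPGroup' ((hmemPH a).1 ha) hx₀P))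
          obtain ⟨i, hi⟩ := hs2
          obtain ⟨d, hd⟩ := exists_conj_mem_sylow (PH.subtype hPD) (s := (⟨s, hsD⟩ : D))
            ⟨i, by rw [Subgroup.orderOf_mk, hi]⟩
          rw [Sylow.coe_subtype, Subgroup.mem_subgroupOf] at hd
          have hd' : (d : H) * s * (d : H)⁻¹ ∈ (PH : Subgroup H) := hd
          obtain ⟨z, hz, hzd⟩ := hDmem (d : H) d.2
          have hs0 : Commute s x₀ := by
            have h1 : Commute ((d : H) * s * (d : H)⁻¹) (x₀ * z) := by
              apply Subtype.ext
              exact h.comm P.isPGroup' ((hmemPH _).1 hd')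
                (show ((x₀ * z : H) : G) ∈ (P : Subgroup G) from
                  mul_mem hx₀P (hAP ((hmemA' z).1 hz)))
            rw [← hzd] at h1
            have h2 := h1.map (MulAut.conj (d : H)⁻¹).toMonoidHom
            simpa [mul_assoc] using h2
          rw [← hst]
          exact hs0.mul_left ht0
        refine ⟨⟨(g : G), ?_⟩, Subtype.ext ?_⟩
        · rw [Subgroup.mem_centralizer_iff]
          have hsubC : A2 ≤ Subgroup.centralizer ({(g : G)} : Set G) :=
            sup_le (fun a ha => Subgroup.mem_centralizer_singleton_iff.2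
                (Subgroup.mem_centralizer_iff.1 g.2 a ha))
              (Subgroup.zpowers_le.2 (Subgroup.mem_centralizer_singleton_iff.2
                (congrArg Subtype.val hcomm.eq).symm))
          exact fun a ha => Subgroup.mem_centralizer_singleton_iff.1 (hsubC ha)
        · exact hg
      · -- multiplicities
        let θ : (P : Subgroup G) →* (PK : Subgroup (H ⧸ A')) :=
          (π.comp (Subgroup.inclusion hle)).codRestrict _ fun a =>
            (hmemPK _).2 ⟨_, (hmemPH _).2 a.2, rfl⟩
        have hθ : Function.Surjective θ := fun y => by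
          obtain ⟨a, ha, hay⟩ := (hmemPK _).1 y.2
          exact ⟨⟨(a : G), (hmemPH a).1 ha⟩, Subtype.ext hay⟩
        refine h.bound P hAP hA1 hle η (mem_pBlock.1 hη) (f.comp θ) (fun a ha => ?_) m ?_
        · rw [MonoidHom.comp_apply, show θ a = 1 from Subtype.ext
            ((QuotientGroup.eq_one_iff _).2 ((hmemA' _).2 ha)), map_one]
        · rw [← hm]
          exact avg_comp_surjective θ hθ fun y => (η : H ⧸ A' → ℂ) y * conj (f y : ℂ)
      · -- linear characters
        obtain ⟨ω₀, hω₀⟩ := IsCharacter.exists_linear (IsIrrCharacter.isCharacter η.2) hd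
        by_contra hne
        obtain ⟨y, hy⟩ : ∃ y, ω₀ y ≠ 1 := by
          by_contra hcon
          push Not at hcon
          exact hne (Subtype.ext (funext fun y => by rw [hω₀, hcon]; rfl))
        obtain ⟨g, rfl⟩ := hπs y
        obtain ⟨s, t, hst, hstc, hs2, ht⟩ := CfsgLib.Blocks.exists_isPPart Nat.prime_two g
        obtain ⟨c, hc⟩ := exists_conj_mem_sylow PH hs2
        set ω := ω₀.comp π with hω
        have hωs : ω s = 1 := by
          have h1 : ω (c * s * c⁻¹) = 1 := Units.ext (by
            rw [hω, MonoidHom.comp_apply, ← hω₀, Units.val_one]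
            exact htriv ⟨_, (hmemPK _).2 ⟨_, hc, rfl⟩⟩)
          rwa [map_mul, map_mul, map_inv, mul_right_comm, mul_inv_cancel, one_mul] at h1
        refine h.twist_false hA hA1 ω ?_ t ht ?_
        · have h1 := inflIrr_mem hM A' hA'c hA'2 η (mem_pBlock.1 hη)
          convert h1 using 1
          exact Subtype.ext (funext fun g => (hω₀ (π g)).symm)
        · intro e
          apply hy
          show ω g = 1
          rw [← hst, map_mul, hωs, e, one_mul]
    -- back to `H`
    refine hasCompl_of_normalizer PH fun g hg => ?_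
    obtain ⟨s, t, hst, hstc, hs2, ht⟩ := CfsgLib.Blocks.exists_isPPart Nat.prime_two g
    have hsN : s ∈ Subgroup.normalizer ((PH : Subgroup H) : Set H) :=
      Subgroup.zpowers_le.2 hg
        (CfsgLib.Blocks.IsPPart.mem_zpowers Nat.prime_two ⟨t, hst, hstc, hs2, ht⟩)
    have hsP := mem_sylow_of_normalizer PH hs2 hsN
    have htN : t ∈ Subgroup.normalizer ((PH : Subgroup H) : Set H) := by
      have : t = s⁻¹ * g := by rw [← hst, inv_mul_cancel_left]
      rw [this]
      exact mul_mem (inv_mem hsN) hg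
    have hPHc : ∀ a ∈ (PH : Subgroup H), ∀ b ∈ (PH : Subgroup H), a * b = b * a :=
      fun a ha b hb => Subtype.ext (h.comm P.isPGroup' ((hmemPH a).1 ha) ((hmemPH b).1 hb))
    have hπN : π t ∈ Subgroup.normalizer ((PK : Subgroup (H ⧸ A')) : Set (H ⧸ A')) := by
      rw [Subgroup.mem_normalizer_iff]
      intro y
      constructor
      · intro hy
        obtain ⟨a, ha, rfl⟩ := (hmemPK y).1 hy
        exact (hmemPK _).2 ⟨_, (Subgroup.mem_normalizer_iff.1 htN a).1 ha, by
          rw [map_mul, map_mul, map_inv]⟩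
      · intro hy
        obtain ⟨a, ha, hay⟩ := (hmemPK _).1 hy
        exact (hmemPK _).2 ⟨t⁻¹ * a * t, (Subgroup.mem_normalizer_iff''.1 htN a).1 ha, by
          rw [map_mul, map_mul, map_inv, hay]; group⟩
    have hcent := hgram.normalizer_le hπN
    have htC : t ∈ Subgroup.centralizer ((PH : Subgroup H) : Set H) := by
      rw [Subgroup.mem_centralizer_iff]
      intro a ha
      have h1 : π a * π t = π t * π a :=
        Subgroup.mem_centralizer_iff.1 hcent _ ((hmemPK _).2 ⟨a, ha, rfl⟩)
      obtain ⟨z, hz, hzt⟩ := hπeq (t * a * t⁻¹) a (by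
        rw [map_mul, map_mul, map_inv, ← h1, mul_inv_cancel_right])
      exact (commute_of_conj_mul hzt (Subgroup.mem_center_iff.1 (hA'c hz) t) (hA'sq z hz) ht).eq.symm
    rw [← hst]
    exact mul_mem (Subgroup.mem_centralizer_iff.2 fun a ha => hPHc a ha s hsP) htC

end CfsgLib.ConstBlock
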