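import Cfsg.Agent.Lib.ConstBlock.Local
import Cfsg.Agent.S1230
import Mathlib.GroupTheory.SpecificGroups.Cyclic

/-!
# The structure of a group with a constant `χ 1 - χ u` on its principal 2-block

The centraliser of an involution is an elementary abelian 2-group, so the group has order two or is
`PSL(2, q)`, and `u` is an involution.
-/

set_option autoImplicit false
set_option linter.unusedSectionVars false
set_option linter.style.haveILetI false
set_option maxHeartbeats 1000000

open scoped ComplexConjugate

namespace CfsgLib.ConstBlock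

open Cfsg CfsgLib.BlockReg CfsgLib.BlockPrincipal CfsgLib.Invol.BlockCol CfsgLib.Char
open scoped Classical

universe u

variable {G : Type u} [Group G] [Finite G] [Fact (Nat.Prime 2)] {M : Ideal AlgInt} {u : G} {k : ℂ}

theorem centralizer_zpowers (p : G) :
    Subgroup.centralizer ((Subgroup.zpowers p : Subgroup G) : Set G) =
      Subgroup.centralizer ({p} : Set G) := by
  rw [Subgroup.zpowers_eq_closure, Subgroup.centralizer_closure]

/-- The block is constant on `p y` for `y` regular centralising the involution `p`. -/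
theorem Hyp.apply_mul (h : Hyp M u k) {χ : IrrCharacter G} (hχ : χ ∈ pBlock M G) {p y : G}
    (hp : orderOf p = 2) (hy : ¬ 2 ∣ orderOf y) (hc : Commute p y) :
    (χ : G → ℂ) (p * y) = (χ : G → ℂ) p := by
  obtain ⟨P, hP⟩ := (IsPGroup.of_card (n := 1)
    (show Nat.card (Subgroup.zpowers p) = 2 ^ 1 by rw [Nat.card_zpowers, hp, pow_one])).exists_le_sylow
  have hcompl := h.hasCompl P (Subgroup.zpowers p) hP (Subgroup.zpowers_ne_bot.2 fun e => by
    simp [e] at hp)
  rw [centralizer_zpowers] at hcompl
  obtain ⟨L, hLn, hL, j, hj⟩ := hcompl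
  haveI := hLn
  exact apply_mul_complement h.hM ⟨1, by rw [hp, pow_one]⟩ L hL hχ
    (y := ⟨y, Subgroup.mem_centralizer_singleton_iff.2 hc.eq.symm⟩)
    ((regular_iff_mem L hL hj _).1 (by rwa [Subgroup.orderOf_mk]))

/-- The trace of the averaging projection composed with a centralising regular element. -/
theorem Hyp.trace_avg (h : Hyp M u k) {n : ℕ} {ρ : Representation ℂ G (Fin n → ℂ)}
    {χ : IrrCharacter G} (hρ : ρ.character = (χ : G → ℂ)) (hχ : χ ∈ pBlock M G)
    (hval : ∀ i : G, orderOf i = 2 → (χ : G → ℂ) i = -1) (R : Subgroup G) [Fintype R]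
    (hR : IsPGroup 2 R) {y : G} (hy : ¬ 2 ∣ orderOf y) (hc : ∀ r ∈ R, Commute r y) :
    LinearMap.trace ℂ _ (avg ρ R * ρ y) =
      ((χ : G → ℂ) y - ((Nat.card R : ℂ) - 1)) / (Nat.card R : ℂ) := by
  rw [trace_avg_mul, hρ, Finset.sum_congr rfl (g := fun r : R =>
    (if r = 1 then (χ : G → ℂ) y + 1 else 0) + (-1 : ℂ)) (fun r _ => by
      by_cases hr : r = 1
      · subst hr; simp
      · have hr2 : orderOf (r : G) = 2 :=
          orderOf_eq_two (h.sq_eq_one hR r.2) fun e => hr (Subtype.ext e)
        rw [if_neg hr, zero_add, h.apply_mul hχ hr2 hy (hc r r.2), hval _ hr2]),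
    Finset.sum_add_distrib, Finset.sum_ite_eq', if_pos (Finset.mem_univ _), Finset.sum_const,
    Finset.card_univ, ← Nat.card_eq_fintype_card, nsmul_eq_mul]
  ring

theorem avg_commute {n : ℕ} (ρ : Representation ℂ G (Fin n → ℂ)) (R : Subgroup G) [Fintype R] {y : G}
    (hc : ∀ r ∈ R, Commute r y) : Commute (avg ρ R) (ρ y) := by
  rw [avg]
  refine Commute.smul_left ?_ _
  refine Commute.sum_left _ _ _ fun r _ => ?_
  exact (hc r r.2).map ρ

/-- A regular element centralising a nontrivial subgroup of a Sylow 2-subgroup is trivial. -/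
theorem Hyp.regular_eq_one (h : Hyp M u k) (P : Sylow 2 G) :
    ∀ (A : Subgroup G), A ≤ (P : Subgroup G) → A ≠ ⊥ →
      ∀ y : G, ¬ 2 ∣ orderOf y → (∀ a ∈ A, Commute a y) → y = 1 := by
  obtain ⟨χ, hχ, hd, hval, hker⟩ := h.exists_small
  obtain ⟨n, ρ, -, hρ⟩ := χ.2
  have hχB : χ ∈ pBlock M G := (mem_nonPr.1 hχ).2
  have hkey : ∀ y : G, (χ : G → ℂ) y = (tp G : ℂ) - 1 → y = 1 := fun y hy => by
    have : y ∈ charKer χ := mem_charKer.2 (hy.trans hd.symm)
    rwa [hker, Subgroup.mem_bot] at this
  suffices key : ∀ (m : ℕ) (A : Subgroup G), A ≤ (P : Subgroup G) → A ≠ ⊥ →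
      Nat.card (P : Subgroup G) - Nat.card A < m →
      ∀ y : G, ¬ 2 ∣ orderOf y → (∀ a ∈ A, Commute a y) → y = 1 from
    fun A hAP hA1 => key _ A hAP hA1 (Nat.lt_succ_self _)
  intro m
  induction m with
  | zero => intro A _ _ hlt; omega
  | succ m ih =>
    intro A hAP hA1 hlt y hy hc
    haveI : Fintype A := Fintype.ofFinite _
    have hA : IsPGroup 2 A := P.isPGroup'.to_le hAP
    have hq : Nat.card (P : Subgroup G) = tp G := (tp_eq_card P).symm
    have hA0 : (Nat.card A : ℂ) ≠ 0 := Nat.cast_ne_zero.2 Nat.card_pos.ne'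
    have hC := h.hasCompl P A hAP hA1
    obtain ⟨L, hLn, hL, j, hj⟩ := hC
    haveI := hLn
    have hreg : ∀ z : Subgroup.centralizer (A : Set G), ¬ 2 ∣ orderOf (z : G) ↔ z ∈ L := fun z => by
      rw [Subgroup.orderOf_coe]
      exact regular_iff_mem L hL hj z
    have hyC : y ∈ Subgroup.centralizer (A : Set G) := Subgroup.mem_centralizer_iff.2 fun a ha => hc a ha
    by_cases hall : ∀ a ∈ (P : Subgroup G), ∀ b ∈ (P : Subgroup G), a ∉ A → b ∉ A → a * b ∈ A
    · by_cases hAeq : A = (P : Subgroup G)
      · -- `A = P`: the fixed space of `P` is zero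
        have ht := h.trace_avg hρ hχB hval A hA (show ¬ 2 ∣ orderOf (1 : G) by simp)
          (fun r _ => Commute.one_right r)
        have hAq : Nat.card A = tp G := by rw [hAeq, hq]
        rw [map_one, mul_one, hd, hAq, sub_self, zero_div] at ht
        have ht' := h.trace_avg hρ hχB hval A hA hy hc
        rw [idem_eq_zero (avg_idem ρ A) ht, zero_mul, map_zero, eq_comm, div_eq_zero_iff,
          or_iff_left hA0, sub_eq_zero] at ht'
        apply hkey
        rw [ht', hAq]
      · -- index two
        obtain ⟨p, hpP, hpA⟩ := SetLike.exists_of_lt (lt_of_le_of_ne hAP hAeq)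
        have hcard : Nat.card (P : Subgroup G) = 2 * Nat.card A := by
          have hle : Nat.card (P : Subgroup G) ≤ 2 * Nat.card A := by
            have hsub : ((P : Subgroup G) : Set G) ⊆ (A : Set G) ∪ (fun a => p⁻¹ * a) '' (A : Set G) := by
              intro b hb
              by_cases hbA : b ∈ A
              · exact Or.inl hbA
              · exact Or.inr ⟨p * b, hall p hpP b hb hpA hbA, by simp⟩
            have h1 := (Set.ncard_le_ncard hsub (Set.toFinite _)).trans (Set.ncard_union_le _ _)
            have h2 := Set.ncard_image_le (f := fun a => p⁻¹ * a) (s := (A : Set G)) (Set.toFinite _)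
            simp only [← Nat.card_coe_set_eq, SetLike.coe_sort_coe] at h1 h2
            omega
          obtain ⟨c, hcc⟩ := Subgroup.card_dvd_of_le hAP
          have hA' : 0 < Nat.card A := Nat.card_pos
          rcases c with _ | _ | _ | c
          · rw [mul_zero] at hcc; exact absurd hcc Nat.card_pos.ne'
          · exact absurd (Subgroup.eq_of_le_of_card_ge hAP (by omega)) hAeq
          · omega
          · rw [hcc] at hle
            nlinarith
        have htpA : (tp G : ℂ) = 2 * (Nat.card A : ℂ) := by
          rw [← hq, hcard]; push_cast; ring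
        have ht1 : LinearMap.trace ℂ _ (avg ρ A) = 1 := by
          have h1 := h.trace_avg hρ hχB hval A hA (show ¬ 2 ∣ orderOf (1 : G) by simp)
            (fun r _ => Commute.one_right r)
          rw [map_one, mul_one, hd, htpA] at h1
          rw [h1]
          field_simp
          ring
        let c : G → ℂ := fun g => LinearMap.trace ℂ _ (avg ρ A * ρ g)
        have hcmul : ∀ g g' : G, (∀ a ∈ A, Commute a g) → c (g * g') = c g * c g' := by
          intro g g' hg
          show LinearMap.trace ℂ _ (avg ρ A * ρ (g * g')) = _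
          rw [map_mul ρ, ← mul_assoc, idem_scalar (avg_idem ρ A) ht1 (avg_commute ρ A hg),
            smul_mul_assoc, map_smul, smul_eq_mul]
        have hcp : ∀ a ∈ A, Commute a (p * y * p⁻¹) := fun a ha => by
          have h1 : Commute a p := h.comm P.isPGroup' (hAP ha) hpP
          exact (h1.mul_right (hc a ha)).mul_right h1.inv_right
        have hpy : ¬ 2 ∣ orderOf (p * y * p⁻¹) := by
          rwa [show p * y * p⁻¹ = MulAut.conj p y by simp, MulEquiv.orderOf_eq]
        have hceq : c (p * y * p⁻¹) = c y := by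
          show LinearMap.trace ℂ _ _ = LinearMap.trace ℂ _ _
          rw [h.trace_avg hρ hχB hval A hA hpy hcp, h.trace_avg hρ hχB hval A hA hy hc,
            char_conj_invariant χ y (p * y * p⁻¹) (isConj_iff.2 ⟨p, rfl⟩)]
        set g := y⁻¹ * (p * y * p⁻¹) with hg
        have hgc : ∀ a ∈ A, Commute a g := fun a ha => (hc a ha).inv_right.mul_right (hcp a ha)
        have hgreg : ¬ 2 ∣ orderOf g := by
          have hpC : p * y * p⁻¹ ∈ Subgroup.centralizer (A : Set G) :=
            Subgroup.mem_centralizer_iff.2 fun a ha => hcp a ha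
          exact (hreg ⟨g, mul_mem (inv_mem hyC) hpC⟩).2
            (mul_mem (inv_mem ((hreg ⟨y, hyC⟩).1 hy)) ((hreg ⟨_, hpC⟩).1 hpy) :
              (⟨y, hyC⟩ : Subgroup.centralizer (A : Set G))⁻¹ * ⟨_, hpC⟩ ∈ L)
        have hcg : c g = 1 := by
          have h1 := hcmul y g hc
          rw [hg, mul_inv_cancel_left, hceq] at h1
          have hcy : c y ≠ 0 := by
            intro h0
            have h2 := hcmul y y⁻¹ hc
            rw [mul_inv_cancel, h0, zero_mul] at h2
            have h3 : c 1 = 1 := by
              show LinearMap.trace ℂ _ (avg ρ A * ρ 1) = 1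
              rw [map_one, mul_one, ht1]
            rw [h3] at h2
            exact one_ne_zero h2
          exact (mul_eq_left₀ hcy).1 h1.symm
        have hg1 : g = 1 := hkey g (by
          have h1 : ((χ : G → ℂ) g - ((Nat.card A : ℂ) - 1)) / (Nat.card A : ℂ) = 1 :=
            (h.trace_avg hρ hχB hval A hA hgreg hgc).symm.trans hcg
          rw [div_eq_one_iff_eq hA0] at h1
          rw [htpA]
          linear_combination h1)
        have hyp : Commute p y := by
          rw [hg, inv_mul_eq_one, eq_mul_inv_iff_mul_eq] at hg1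
          exact hg1.symm
        refine ih (A ⊔ Subgroup.zpowers p) (sup_le hAP (Subgroup.zpowers_le.2 hpP))
          (fun e => hA1 (le_bot_iff.1 (e ▸ le_sup_left))) ?_ y hy ?_
        · have h1 : Nat.card A < Nat.card (A ⊔ Subgroup.zpowers p : Subgroup G) := by
            refine lt_of_le_of_ne (Subgroup.card_le_of_le le_sup_left) fun e => hpA ?_
            rw [Subgroup.eq_of_le_of_card_ge (le_sup_left : A ≤ A ⊔ Subgroup.zpowers p) e.ge]
            exact Subgroup.mem_sup_right (Subgroup.mem_zpowers p)
          have h2 := Subgroup.card_le_of_le (sup_le hAP (Subgroup.zpowers_le.2 hpP))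
          omega
        · have hsub : A ⊔ Subgroup.zpowers p ≤ Subgroup.centralizer ({y} : Set G) :=
            sup_le (fun a ha => Subgroup.mem_centralizer_singleton_iff.2 (hc a ha).eq)
              (Subgroup.zpowers_le.2 (Subgroup.mem_centralizer_singleton_iff.2 hyp.eq))
          exact fun a ha => Subgroup.mem_centralizer_singleton_iff.1 (hsub ha)
    · -- index at least four
      push Not at hall
      obtain ⟨a, haP, b, hbP, haA, hbA, habA⟩ := hall
      have step : ∀ x ∈ (P : Subgroup G), x ∉ A → ∀ z : G, ¬ 2 ∣ orderOf z →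
          (∀ w ∈ A, Commute w z) → Commute x z → z = 1 := by
        intro x hxP hxA z hz hzc hzx
        refine ih (A ⊔ Subgroup.zpowers x) (sup_le hAP (Subgroup.zpowers_le.2 hxP))
          (fun e => hA1 (le_bot_iff.1 (e ▸ le_sup_left))) ?_ z hz ?_
        · have h1 : Nat.card A < Nat.card (A ⊔ Subgroup.zpowers x : Subgroup G) := by
            refine lt_of_le_of_ne (Subgroup.card_le_of_le le_sup_left) fun e => hxA ?_
            rw [Subgroup.eq_of_le_of_card_ge (le_sup_left : A ≤ A ⊔ Subgroup.zpowers x) e.ge]
            exact Subgroup.mem_sup_right (Subgroup.mem_zpowers x)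
          have h2 := Subgroup.card_le_of_le (sup_le hAP (Subgroup.zpowers_le.2 hxP))
          omega
        · have hsub : A ⊔ Subgroup.zpowers x ≤ Subgroup.centralizer ({z} : Set G) :=
            sup_le (fun w hw => Subgroup.mem_centralizer_singleton_iff.2 (hzc w hw).eq)
              (Subgroup.zpowers_le.2 (Subgroup.mem_centralizer_singleton_iff.2 hzx.eq))
          exact fun w hw => Subgroup.mem_centralizer_singleton_iff.1 (hsub hw)
      have hinv : ∀ x ∈ (P : Subgroup G), x ∉ A → x * y * x = y⁻¹ := by
        intro x hxP hxA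
        have hxx : x * x = 1 := by rw [← pow_two]; exact h.sq_eq_one P.isPGroup' hxP
        have hxi : x⁻¹ = x := inv_eq_of_mul_eq_one_right hxx
        have hxC : x ∈ Subgroup.centralizer (A : Set G) :=
          Subgroup.mem_centralizer_iff.2 fun w hw => h.comm P.isPGroup' (hAP hw) hxP
        set Y : Subgroup.centralizer (A : Set G) := ⟨y, hyC⟩
        set X : Subgroup.centralizer (A : Set G) := ⟨x, hxC⟩
        have hY : Y ∈ L := (hreg Y).1 hy
        have hXY : X * Y * X ∈ L := by
          have := hLn.conj_mem Y hY X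
          rwa [show X⁻¹ = X from Subtype.ext hxi] at this
        set g := y⁻¹ * (x * y * x) with hg
        have hgL : Y⁻¹ * (X * Y * X) ∈ L := mul_mem (inv_mem hY) hXY
        have hgreg : ¬ 2 ∣ orderOf g := (hreg _).2 hgL
        obtain ⟨t, ht⟩ : ∃ t, orderOf g + 1 = 2 * t := ⟨(orderOf g + 1) / 2, by omega⟩
        have hgg : (g ^ t) * (g ^ t) = g := by
          rw [← pow_add, ← two_mul, ← ht, pow_succ, pow_orderOf_eq_one, one_mul]
        have hxg : x * g * x = g⁻¹ := by
          rw [hg, mul_inv_rev, inv_inv, mul_inv_rev, mul_inv_rev, hxi]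
          calc x * (y⁻¹ * (x * y * x)) * x = x * y⁻¹ * x * y * (x * x) := by group
            _ = _ := by rw [hxx, mul_one]; group
        have hxgt : x * g ^ t * x = (g ^ t)⁻¹ := by
          have h1 : MulAut.conj x g = g⁻¹ := by rw [MulAut.conj_apply, hxi, hxg]
          have h2 := map_pow (MulAut.conj x) g t
          rw [h1, MulAut.conj_apply, hxi, inv_pow] at h2
          exact h2
        have hz : x * (y * g ^ t) * x = y * g ^ t := by
          calc x * (y * g ^ t) * x = (x * y * x) * (x * g ^ t * x) := by
                rw [show x * y * x * (x * g ^ t * x) = x * y * (x * x) * g ^ t * x by group, hxx]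
                group
            _ = y * g * (g ^ t)⁻¹ := by rw [hxgt, hg]; group
            _ = y * g ^ t := by
                conv_lhs => arg 1; arg 2; rw [← hgg]
                group
        have hmem : Y * (Y⁻¹ * (X * Y * X)) ^ t ∈ L := mul_mem hY (Subgroup.pow_mem _ hgL t)
        have hone : y * g ^ t = 1 := by
          refine step x hxP hxA _ ((hreg _).2 hmem) (fun w hw => ?_) ?_
          · exact Subgroup.mem_centralizer_iff.1
              (Y * (Y⁻¹ * (X * Y * X)) ^ t).2 w hw
          · show x * (y * g ^ t) = y * g ^ t * x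
            calc x * (y * g ^ t) = x * (y * g ^ t) * (x * x) := by rw [hxx, mul_one]
              _ = x * (y * g ^ t) * x * x := by group
              _ = y * g ^ t * x := by rw [hz]
        have hyg : y = (g ^ t)⁻¹ := eq_inv_of_mul_eq_one_left hone
        calc x * y * x = y * g := by rw [hg]; group
          _ = (g ^ t)⁻¹ * (g ^ t * g ^ t) := by rw [hgg, ← hyg]
          _ = g ^ t := by group
          _ = y⁻¹ := by rw [hyg, inv_inv]
      refine step (a * b) (mul_mem haP hbP) habA y hy hc ?_
      have hbb : b * b = 1 := by rw [← pow_two]; exact h.sq_eq_one P.isPGroup' hbP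
      have haa : a * a = 1 := by rw [← pow_two]; exact h.sq_eq_one P.isPGroup' haP
      have ha' := hinv a haP haA
      have hb' := hinv b hbP hbA
      have h1 : a * y⁻¹ * a = y := by
        rw [← ha', show a * (a * y * a) * a = (a * a) * y * (a * a) by group, haa]
        group
      show a * b * y = y * (a * b)
      calc a * b * y = a * (b * y * b) * b := by
            rw [show a * (b * y * b) * b = a * b * y * (b * b) by group, hbb, mul_one]
        _ = a * y⁻¹ * a * (a * b) := by
            rw [hb', show a * y⁻¹ * a * (a * b) = a * y⁻¹ * (a * a) * b by group, haa, mul_one]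
        _ = y * (a * b) := by rw [h1]

theorem Hyp.regular_eq_one_of_commute (h : Hyp M u k) {i y : G} (hi : orderOf i = 2)
    (hy : ¬ 2 ∣ orderOf y) (hc : Commute i y) : y = 1 := by
  obtain ⟨P, hP⟩ := (IsPGroup.of_card (n := 1)
    (show Nat.card (Subgroup.zpowers i) = 2 ^ 1 by rw [Nat.card_zpowers, hi, pow_one])).exists_le_sylow
  refine h.regular_eq_one P (Subgroup.zpowers i) hP
    (Subgroup.zpowers_ne_bot.2 fun e => by simp [e] at hi) y hy fun a ha => ?_
  obtain ⟨z, rfl⟩ := Subgroup.mem_zpowers_iff.1 ha
  exact hc.zpow_left z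

theorem Hyp.centralizer_sq (h : Hyp M u k) {i c : G} (hi : orderOf i = 2) (hc : Commute i c) :
    c ^ 2 = 1 := by
  obtain ⟨s, t, hst, hstc, hs2, ht⟩ := CfsgLib.Blocks.exists_isPPart Nat.prime_two c
  have hp : IsPPart 2 c s := ⟨t, hst, hstc, hs2, ht⟩
  obtain ⟨m, hm⟩ := Subgroup.mem_zpowers_iff.1
    (CfsgLib.Blocks.IsPPart.mem_zpowers Nat.prime_two hp)
  have his : Commute i s := hm ▸ hc.zpow_right m
  have hit : Commute i t := by
    have : t = s⁻¹ * c := by rw [← hst, inv_mul_cancel_left]
    rw [this]
    exact his.inv_right.mul_right hc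
  have ht1 := h.regular_eq_one_of_commute hi ht hit
  rw [← hst, ht1, mul_one]
  by_cases hs1 : s = 1
  · rw [hs1, one_pow]
  · rw [← h.two_elem hs2 hs1, pow_orderOf_eq_one]

theorem Hyp.u_sq (h : Hyp M u k) : u ^ 2 = 1 := by
  obtain ⟨s, hs⟩ := CfsgLib.Blocks.exists_isPPart Nat.prime_two u
  have hs2 := h.part_invol hs
  obtain ⟨m, hm⟩ := Subgroup.mem_zpowers_iff.1
    (CfsgLib.Blocks.IsPPart.mem_zpowers Nat.prime_two hs)
  exact h.centralizer_sq hs2 (hm ▸ (Commute.refl u).zpow_left m)

/-- The structure of the group. -/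
theorem Hyp.structure_thm (h : Hyp M u k) :
    Nat.card G = 2 ∨ ∃ (F : Type) (_ : Field F) (_ : Fintype F) (n : ℕ), 2 ≤ n ∧
      Fintype.card F = 2 ^ n ∧ Nonempty (G ≃* Matrix.ProjectiveSpecialLinearGroup (Fin 2) F) := by
  obtain ⟨P⟩ : Nonempty (Sylow 2 G) := inferInstance
  have hq : Nat.card (P : Subgroup G) = tp G := (tp_eq_card P).symm
  by_cases h2 : tp G = 2
  · left
    obtain ⟨L, hLn, hL, j, hj⟩ := hasCompl_of_normalizer P fun n hn => by
      rw [Subgroup.mem_centralizer_iff]
      intro b hb
      by_cases hb1 : b = 1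
      · subst hb1; simp
      have hnb : n * b * n⁻¹ ∈ (P : Subgroup G) := (Subgroup.mem_normalizer_iff.1 hn b).1 hb
      have hcard : Nat.card (P : Subgroup G) = 2 := hq.trans h2
      obtain ⟨x, y, hxy, huniv⟩ := Nat.card_eq_two_iff.1 hcard
      have key : ∀ z w : (P : Subgroup G), z ≠ 1 → w ≠ 1 → z = w := by
        intro z w hz hw
        have e1 : (1 : (P : Subgroup G)) = x ∨ (1 : (P : Subgroup G)) = y := by
          simpa using (Set.ext_iff.1 huniv 1).2 (Set.mem_univ _)
        have e2 : z = x ∨ z = y := by simpa using (Set.ext_iff.1 huniv z).2 (Set.mem_univ _)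
        have e3 : w = x ∨ w = y := by simpa using (Set.ext_iff.1 huniv w).2 (Set.mem_univ _)
        rcases e1 with e1 | e1 <;> rcases e2 with e2 | e2 <;> rcases e3 with e3 | e3 <;>
          simp_all
      have h1 := key ⟨_, hnb⟩ ⟨b, hb⟩
        (fun e => hb1 (by simpa using congrArg Subtype.val e))
        (fun e => hb1 (congrArg Subtype.val e))
      exact (mul_inv_eq_iff_eq_mul.1 (congrArg Subtype.val h1)).symm
    haveI := hLn
    have hLbot : L = ⊥ := le_bot_iff.1 (h.core ▸ le_oddCore hL)
    rw [hLbot, Subgroup.index_bot] at hj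
    have h3 : tp G = 2 ^ j := by
      rw [tp, hj, Nat.prime_two.factorization_pow, Finsupp.single_eq_same]
    rw [hj, ← h3, h2]
  · right
    have hn : 2 ≤ (Nat.card G).factorization 2 := by
      have h1 := h.two_le_tp
      by_contra hlt
      rw [tp] at h2 h1
      interval_cases hf : (Nat.card G).factorization 2 <;> simp_all
    have h4 : 4 ≤ Nat.card (P : Subgroup G) := by
      rw [hq]
      exact le_trans (show 4 ≤ 2 ^ 2 by norm_num) (Nat.pow_le_pow_right two_pos hn)
    have hnc : ¬ IsCyclic (P : Subgroup G) := by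
      intro hcyc
      obtain ⟨g, hg⟩ := hcyc.exists_generator
      have h1 : orderOf g = Nat.card (P : Subgroup G) := orderOf_eq_card_of_forall_mem_zpowers hg
      have h3 : orderOf g ≤ 2 := Nat.le_of_dvd two_pos (orderOf_dvd_of_pow_eq_one
        (Subtype.ext (h.sq_eq_one P.isPGroup' g.2)))
      omega
    have hnn : ¬ (P : Subgroup G).Normal := by
      intro hnor
      haveI := hnor
      cases nonempty_fintype G
      have hodd : ¬ 2 ∣ Nat.card (G ⧸ (P : Subgroup G)) := P.not_dvd_index
      by_cases h1 : Nat.card (G ⧸ (P : Subgroup G)) = 1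
      · have htop : (P : Subgroup G) = ⊤ := Subgroup.index_eq_one.1 h1
        have hall : ∀ g : G, g ∈ (P : Subgroup G) := fun g => htop ▸ Subgroup.mem_top g
        obtain ⟨z, hz⟩ := h.exists_invol
        have hsub : ∀ g : G, g = 1 ∨ g = z := by
          intro g
          by_cases hg : g = 1
          · exact Or.inl hg
          · obtain ⟨c, hc⟩ := isConj_iff.1
              (h.invol_conj (orderOf_eq_two (h.sq_eq_one P.isPGroup' (hall g)) hg) hz)
            refine Or.inr ?_
            rw [← hc, h.comm P.isPGroup' (hall c) (hall g), mul_inv_cancel_right]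
        have hle : Nat.card (P : Subgroup G) ≤ 2 := by
          rw [htop, Subgroup.card_top, ← Set.ncard_univ]
          refine (Set.ncard_le_ncard (t := {1, z}) (fun g _ => hsub g) (Set.toFinite _)).trans ?_
          exact (Set.ncard_insert_le _ _).trans (by simp)
        omega
      · haveI := Fintype.ofFinite (G ⧸ (P : Subgroup G))
        obtain ⟨η, hη⟩ : ∃ η : IrrCharacter (G ⧸ (P : Subgroup G)), η ≠ principalIrr := by
          by_contra hcon
          push Not at hcon
          apply h1
          have h5 := sum_apply_one_sq (G := G ⧸ (P : Subgroup G))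
          rw [Fintype.sum_eq_single (principalIrr : IrrCharacter (G ⧸ (P : Subgroup G)))
            (fun η hη => absurd (hcon η) hη), principalIrr_apply, one_pow] at h5
          exact_mod_cast h5.symm
        set χ := CfsgLib.Blk83.inflIrr (P : Subgroup G) η with hχ
        have hχ1 : (χ : G → ℂ) 1 = (η : G ⧸ (P : Subgroup G) → ℂ) 1 := by simp [hχ]
        have hd : ¬ 2 ∣ charDegree (χ : G → ℂ) := by
          intro hdd
          refine hodd (dvd_trans ?_ (deg_dvd_card η))
          simpa [charDegree, hχ1] using hdd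
        have hB : χ ∈ principalBlock M G := by
          refine mem_principal_of_centralized h.hM (P : Subgroup G) P.isPGroup' χ hd ?_
          rw [Finset.sum_eq_single (1 : G) (fun x hx hx1 => ?_) (fun hn => absurd (by simp) hn),
            ← deg_cast]
          · exact not_memIdeal_natCast h.hM hd
          · obtain ⟨hxr, hxc⟩ := (Finset.mem_filter.1 hx).2
            obtain ⟨z, hz⟩ := h.exists_invol
            obtain ⟨c, hc⟩ := exists_conj_mem_sylow P (s := z) ⟨1, by rw [hz, pow_one]⟩
            refine absurd (h.regular_eq_one_of_commute (i := c * z * c⁻¹) ?_ hxr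
              (Subgroup.mem_centralizer_iff.1 hxc _ hc)) hx1
            rwa [show c * z * c⁻¹ = MulAut.conj c z by simp, MulEquiv.orderOf_eq]
        have hne : χ ≠ principalIrr := fun e => hη (CfsgLib.Blk83.inflIrr_injective (P : Subgroup G)
          (by rw [← hχ, e]; exact Subtype.ext (funext fun g => by simp)))
        obtain ⟨i, hiP, hi1⟩ : ∃ i ∈ (P : Subgroup G), i ≠ 1 := by
          by_contra hcon
          push Not at hcon
          have : (P : Subgroup G) = ⊥ := (Subgroup.eq_bot_iff_forall _).2 hcon
          rw [this, Subgroup.card_bot] at h4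
          omega
        have hv := h.value (mem_nonPr.2 ⟨hne, mem_pBlock.2 hB⟩)
          (orderOf_eq_two (h.sq_eq_one P.isPGroup' hiP) hi1)
        rw [hχ, CfsgLib.Blk83.inflIrr_apply, CfsgLib.Blk83.inflIrr_apply,
          (QuotientGroup.eq_one_iff i).2 hiP, QuotientGroup.mk_one, eq_comm, sub_eq_self] at hv
        exact (show (tp G : ℂ) ≠ 0 by simp [tp]) hv
    have hC : ∀ t : G, orderOf t = 2 → IsMulCommutative (Subgroup.centralizer ({t} : Set G)) ∧
        ∀ c ∈ Subgroup.centralizer ({t} : Set G), c ^ 2 = 1 := by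
      intro t ht
      have hsq : ∀ c ∈ Subgroup.centralizer ({t} : Set G), c ^ 2 = 1 := fun c hc =>
        h.centralizer_sq ht (Subgroup.mem_centralizer_singleton_iff.1 hc).symm
      refine ⟨⟨⟨fun a b => Subtype.ext ?_⟩⟩, hsq⟩
      have e : ∀ x ∈ Subgroup.centralizer ({t} : Set G), x⁻¹ = x := fun x hx =>
        inv_eq_of_mul_eq_one_right (by rw [← pow_two]; exact hsq x hx)
      show (a : G) * b = b * a
      conv_lhs => rw [← e _ (mul_mem a.2 b.2), mul_inv_rev, e _ a.2, e _ b.2]
    obtain ⟨F, i1, i2, hcard, hiso⟩ := Cfsg.Agent.S1230.result P hnc hnn hC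
    exact ⟨F, i1, i2, (Nat.card G).factorization 2, hn, by rw [hcard, hq]; rfl, hiso⟩

end CfsgLib.ConstBlock
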