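import Cfsg.Agent.Lib.ConstBlock.Bridge
import Cfsg.Agent.Lib.Blocks.Section
import Cfsg.Agent.Lib.Char.Complete
import Cfsg.Agent.Lib.Solvable.Core
import Cfsg.Agent.Lib.BlockReg.Induced
import Cfsg.Agent.Lib.BlockReg.Integral

/-!
# A principal 2-block with `χ 1 - χ u` constant, in a group with trivial odd core

All involutions are conjugate, the Sylow 2-subgroups are elementary abelian, the constant is their
order `q`, and every nonprincipal character of the block takes the value `χ 1 - q` at involutions.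
-/

set_option autoImplicit false
set_option linter.unusedSectionVars false
set_option linter.style.haveILetI false
set_option maxHeartbeats 1000000

open scoped ComplexConjugate

namespace CfsgLib.ConstBlock

open Cfsg CfsgLib.BlockReg CfsgLib.BlockPrincipal CfsgLib.Invol.BlockCol CfsgLib.Char
open scoped Classical

universe u

variable {G : Type u} [Group G] [Finite G]

/-- The kernel of an irreducible character. -/
def charKer (χ : IrrCharacter G) : Subgroup G where
  carrier := {g | (χ : G → ℂ) g = (χ : G → ℂ) 1}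
  one_mem' := rfl
  mul_mem' := fun {a b} ha hb => by
    obtain ⟨n, ρ, -, hρ⟩ := χ.2
    simp only [Set.mem_ofPred_eq, ← hρ, Representation.char_one, character_eq_degree_iff] at ha hb ⊢
    rw [map_mul, ha, hb]; rfl
  inv_mem' := fun {a} ha => by
    simp only [Set.mem_ofPred_eq] at ha ⊢
    rw [char_inv, ha, ← char_inv, inv_one]

theorem mem_charKer {χ : IrrCharacter G} {g : G} :
    g ∈ charKer χ ↔ (χ : G → ℂ) g = (χ : G → ℂ) 1 := Iff.rfl

instance charKer_normal (χ : IrrCharacter G) : (charKer χ).Normal :=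
  ⟨fun n hn g => (char_conj_invariant χ n _ (isConj_iff.2 ⟨g, rfl⟩)).symm.trans hn⟩

/-- A normal subgroup of odd order lies in the odd core. -/
theorem le_oddCore {N : Subgroup G} [hN : N.Normal] (h : ¬ 2 ∣ Nat.card N) : N ≤ oddCore G :=
  CfsgLib.Solvable.le_pPrimeCore hN (Nat.prime_two.coprime_iff_not_dvd.2 h).symm

/-- A normal subgroup without involutions lies in the odd core. -/
theorem le_oddCore_of_invol {N : Subgroup G} [hN : N.Normal]
    (h : ∀ i ∈ N, orderOf i ≠ 2) : N ≤ oddCore G := by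
  haveI : Fact (Nat.Prime 2) := ⟨Nat.prime_two⟩
  refine le_oddCore fun hd => ?_
  obtain ⟨x, hx⟩ := exists_prime_orderOf_dvd_card' 2 hd
  exact h x x.2 (by rwa [Subgroup.orderOf_coe])

/-- The hypothesis: trivial odd core, `u ≠ 1`, constant `χ 1 - χ u`. -/
structure Hyp (M : Ideal AlgInt) (u : G) (k : ℂ) : Prop where
  hM : IsPModular 2 M
  hk : ∀ χ ∈ pBlock M G, χ ≠ principalIrr → (χ : G → ℂ) 1 - (χ : G → ℂ) u = k
  core : oddCore G = ⊥
  hu : u ≠ 1

/-- The principal block without the principal character. -/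
noncomputable def nonPr (M : Ideal AlgInt) (G : Type u) [Group G] [Finite G] :
    Finset (IrrCharacter G) :=
  (pBlock M G).erase principalIrr

theorem mem_nonPr {M : Ideal AlgInt} {χ : IrrCharacter G} :
    χ ∈ nonPr M G ↔ χ ≠ principalIrr ∧ χ ∈ pBlock M G :=
  Finset.mem_erase

/-- The order of a Sylow 2-subgroup. -/
noncomputable def tp (G : Type u) [Group G] : ℕ := 2 ^ (Nat.card G).factorization 2

theorem tp_eq_card (P : Sylow 2 G) : tp G = Nat.card (P : Subgroup G) := by
  haveI : Fact (Nat.Prime 2) := ⟨Nat.prime_two⟩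
  exact P.card_eq_multiplicity.symm

variable [Fact (Nat.Prime 2)] {M : Ideal AlgInt} {u : G} {k : ℂ}

theorem principal_mem (hM : IsPModular 2 M) : (principalIrr : IrrCharacter G) ∈ pBlock M G :=
  mem_pBlock.2 (sameBlock_refl hM _)

theorem isPBlock_B : IsPBlock M (principalBlock M G) := ⟨principalIrr, rfl⟩

theorem sum_B (hM : IsPModular 2 M) (f : IrrCharacter G → ℂ) :
    ∑ χ ∈ pBlock M G, f χ = f principalIrr + ∑ χ ∈ nonPr M G, f χ :=
  (Finset.add_sum_erase _ f (principal_mem hM)).symm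

/-- Orthogonality to the degrees at a singular element. -/
theorem orth_one (hM : IsPModular 2 M) {g : G} (hg : 2 ∣ orderOf g) :
    ∑ χ ∈ pBlock M G, (χ : G → ℂ) 1 * (χ : G → ℂ) g = 0 := by
  have h := block_orthogonality hM (isPBlock_B (M := M) (G := G)) 1 g⁻¹ (by simp)
    (by rwa [orderOf_inv])
  rw [finsum_principal] at h
  rw [← h]
  exact Finset.sum_congr rfl fun χ _ => by rw [char_inv, Complex.conj_conj]

theorem Hyp.two_dvd_card (h : Hyp M u k) : 2 ∣ Nat.card G := by
  by_contra hd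
  apply h.hu
  have hle : (⊤ : Subgroup G) ≤ oddCore G := le_oddCore (by rwa [Subgroup.card_top])
  exact Subgroup.mem_bot.1 (h.core ▸ hle (Subgroup.mem_top u))

theorem Hyp.exists_invol (h : Hyp M u k) : ∃ z : G, orderOf z = 2 :=
  exists_prime_orderOf_dvd_card' 2 h.two_dvd_card

theorem Hyp.k_ne_zero (h : Hyp M u k) : k ≠ 0 := by
  intro hk0
  let N : Subgroup G :=
    { carrier := {g | ∀ χ ∈ pBlock M G, g ∈ charKer χ}
      one_mem' := fun χ _ => one_mem _
      mul_mem' := fun ha hb χ hχ => mul_mem (ha χ hχ) (hb χ hχ)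
      inv_mem' := fun ha χ hχ => inv_mem (ha χ hχ) }
  haveI : N.Normal := ⟨fun n hn g χ hχ => (charKer_normal χ).conj_mem n (hn χ hχ) g⟩
  have hu : u ∈ N := by
    intro χ hχ
    rw [mem_charKer]
    by_cases hne : χ = principalIrr
    · subst hne; simp
    · have := h.hk χ hχ hne
      rw [hk0, sub_eq_zero] at this
      exact this.symm
  refine h.hu (Subgroup.mem_bot.1 (h.core ▸ le_oddCore_of_invol (N := N) (fun i hi hi2 => ?_) hu))
  have h0 := orth_one h.hM (g := i) (hi2 ▸ dvd_rfl)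
  rw [Finset.sum_congr rfl (g := fun χ : IrrCharacter G =>
    ((charDegree (χ : G → ℂ) ^ 2 : ℕ) : ℂ)) (fun χ hχ => by
      rw [mem_charKer.1 (hi χ hχ), ← deg_cast, Nat.cast_pow, sq]), ← Nat.cast_sum,
    Nat.cast_eq_zero] at h0
  have h1 := Finset.sum_eq_zero_iff.1 h0 _ (principal_mem h.hM)
  exact (deg_pos (principalIrr : IrrCharacter G)).ne' (pow_eq_zero_iff two_ne_zero |>.1 h1)

/-- The degree sum of the block is even. -/
theorem Hyp.even_sum (h : Hyp M u k) :
    MemLocalIdeal M (∑ χ ∈ pBlock M G, (χ : G → ℂ) 1) := by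
  obtain ⟨z, hz⟩ := h.exists_invol
  have h0 := orth_one h.hM (g := z) (hz ▸ dvd_rfl)
  have h1 : MemLocalIdeal M (∑ χ ∈ pBlock M G, (χ : G → ℂ) 1 * (χ : G → ℂ) 1) := by
    have h2 : MemLocalIdeal M (∑ χ ∈ pBlock M G,
        (χ : G → ℂ) 1 * ((χ : G → ℂ) (z * 1) - (χ : G → ℂ) 1)) :=
      memIdeal_sum h.hM _ fun χ _ => memIdeal_mul_left h.hM (memRing_char h.hM χ 1)
        (char_mul_sub_memIdeal h.hM χ (Commute.one_right z)
          (j := 1) (by rw [pow_one, ← hz, pow_orderOf_eq_one]) (by simp))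
    simp only [mul_one, mul_sub, Finset.sum_sub_distrib, h0, zero_sub] at h2
    simpa using memIdeal_neg h2
  have hsq : ∀ χ : IrrCharacter G, (χ : G → ℂ) 1 * (χ : G → ℂ) 1 =
      ((charDegree (χ : G → ℂ) ^ 2 : ℕ) : ℂ) := fun χ => by rw [← deg_cast, Nat.cast_pow, sq]
  simp only [hsq, ← Nat.cast_sum, memIdeal_natCast_iff h.hM] at h1
  simp only [← deg_cast, ← Nat.cast_sum, memIdeal_natCast_iff h.hM]
  have h3 : 2 ∣ ∑ χ ∈ pBlock M G, (charDegree (χ : G → ℂ) ^ 2 + charDegree (χ : G → ℂ)) :=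
    Finset.dvd_sum fun χ _ => by
      have := (Nat.even_mul_succ_self (charDegree (χ : G → ℂ))).two_dvd
      rwa [mul_add_one, ← sq] at this
  rw [Finset.sum_add_distrib] at h3
  exact (Nat.dvd_add_right h1).1 h3

/-- Every nontrivial 2-element is conjugate to the 2-part of `u`. -/
theorem Hyp.isConj_part (h : Hyp M u k) {s : G} (hs : IsPPart 2 u s) {y : G}
    (hy : ∃ j : ℕ, orderOf y = 2 ^ j) (hy1 : y ≠ 1) : IsConj y s := by
  by_contra hne
  obtain ⟨j, hj⟩ := hy
  have hyp : IsPPart 2 y y := by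
    simpa using CfsgLib.Blocks.isPPart_of_commute (Commute.one_right y) hj
      (show ¬ 2 ∣ orderOf (1 : G) by simp)
  haveI := h.hM.2.1
  have h1 := CfsgLib.Blocks.block_orthogonality_section Nat.prime_two h.hM.2.2
    (isPBlock_B (M := M) (G := G)) hyp hs hne
  have h2 := CfsgLib.Blocks.block_orthogonality_section Nat.prime_two h.hM.2.2
    (isPBlock_B (M := M) (G := G)) hyp
    (CfsgLib.Blocks.isPPart_one_of_regular (show ¬ 2 ∣ orderOf (1 : G) by simp))
    (fun e => hy1 (isConj_one_left.1 e))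
  rw [finsum_principal] at h1 h2
  simp only [char_inv] at h1
  simp only [inv_one] at h2
  rw [sum_B h.hM] at h1 h2
  simp only [principalIrr_apply, map_one, mul_one] at h1 h2
  have h3 : conj k * ∑ χ ∈ nonPr M G, (χ : G → ℂ) y = 0 := by
    rw [Finset.mul_sum]
    rw [show (0 : ℂ) = (1 + ∑ χ ∈ nonPr M G, (χ : G → ℂ) y * (χ : G → ℂ) 1) -
      (1 + ∑ χ ∈ nonPr M G, (χ : G → ℂ) y * conj ((χ : G → ℂ) u)) by rw [h1, h2, sub_zero],
      add_sub_add_left_eq_sub, ← Finset.sum_sub_distrib]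
    refine Finset.sum_congr rfl fun χ hχ => ?_
    obtain ⟨hne', hχB⟩ := mem_nonPr.1 hχ
    rw [← h.hk χ hχB hne', map_sub, ← char_inv χ 1, inv_one]
    ring
  have h4 := (mul_eq_zero.1 h3).resolve_left ((map_ne_zero _).2 h.k_ne_zero)
  have h5 : MemLocalIdeal M (∑ χ ∈ pBlock M G, ((χ : G → ℂ) (y * 1) - (χ : G → ℂ) 1)) :=
    memIdeal_sum h.hM _ fun χ _ => char_mul_sub_memIdeal h.hM χ (Commute.one_right y)
      (j := j) (hj ▸ pow_orderOf_eq_one y) (by simp)
  simp only [mul_one, Finset.sum_sub_distrib] at h5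
  have h6 := memIdeal_add h.hM h5 h.even_sum
  rw [sub_add_cancel, sum_B h.hM, h4, add_zero, principalIrr_apply] at h6
  exact not_memIdeal_one h.hM h6

theorem Hyp.part_invol (h : Hyp M u k) {s : G} (hs : IsPPart 2 u s) : orderOf s = 2 := by
  obtain ⟨z, hz⟩ := h.exists_invol
  have hc := h.isConj_part hs ⟨1, by rw [hz, pow_one]⟩ (fun e => by simp [e] at hz)
  rwa [← CfsgLib.BlockReg.orderOf_eq_of_isConj hc]

/-- Nontrivial 2-elements are conjugate involutions. -/
theorem Hyp.two_elem (h : Hyp M u k) {y : G} (hy : ∃ j : ℕ, orderOf y = 2 ^ j) (hy1 : y ≠ 1) :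
    orderOf y = 2 := by
  obtain ⟨s, hs⟩ := CfsgLib.Blocks.exists_isPPart Nat.prime_two u
  rw [CfsgLib.BlockReg.orderOf_eq_of_isConj (h.isConj_part hs hy hy1)]
  exact h.part_invol hs

theorem Hyp.invol_conj (h : Hyp M u k) {i j : G} (hi : orderOf i = 2) (hj : orderOf j = 2) :
    IsConj i j := by
  obtain ⟨s, hs⟩ := CfsgLib.Blocks.exists_isPPart Nat.prime_two u
  exact (h.isConj_part hs ⟨1, by rw [hi, pow_one]⟩ (fun e => by simp [e] at hi)).trans
    (h.isConj_part hs ⟨1, by rw [hj, pow_one]⟩ (fun e => by simp [e] at hj)).symm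

theorem Hyp.sq_eq_one (h : Hyp M u k) {P : Subgroup G} (hP : IsPGroup 2 P) {a : G} (ha : a ∈ P) :
    a ^ 2 = 1 := by
  by_cases ha1 : a = 1
  · rw [ha1, one_pow]
  · obtain ⟨j, hj⟩ := hP ⟨a, ha⟩
    obtain ⟨i, -, hi⟩ := (Nat.dvd_prime_pow Nat.prime_two).1
      (orderOf_dvd_of_pow_eq_one (congrArg Subtype.val hj : a ^ 2 ^ j = 1))
    rw [← h.two_elem ⟨i, hi⟩ ha1]
    exact pow_orderOf_eq_one a

theorem Hyp.comm (h : Hyp M u k) {P : Subgroup G} (hP : IsPGroup 2 P) {a b : G} (ha : a ∈ P)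
    (hb : b ∈ P) : a * b = b * a := by
  have e : ∀ x ∈ P, x⁻¹ = x := fun x hx => inv_eq_of_mul_eq_one_right (by
    rw [← sq]; exact h.sq_eq_one hP hx)
  conv_lhs => rw [← e (a * b) (mul_mem ha hb), mul_inv_rev, e a ha, e b hb]

theorem Hyp.dvd_orderOf_u (h : Hyp M u k) : 2 ∣ orderOf u := by
  obtain ⟨s, hs⟩ := CfsgLib.Blocks.exists_isPPart Nat.prime_two u
  by_contra hd
  have := (CfsgLib.Blocks.not_dvd_orderOf_iff Nat.prime_two hs).1 hd
  simpa [this] using h.part_invol hs

theorem Hyp.odd_nonPr (h : Hyp M u k) :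
    ¬ 2 ∣ ∑ χ ∈ nonPr M G, charDegree (χ : G → ℂ) := by
  intro hd
  have h1 := h.even_sum
  rw [sum_B h.hM, principalIrr_apply] at h1
  simp only [← deg_cast] at h1
  rw [← Nat.cast_sum, ← Nat.cast_one, ← Nat.cast_add, memIdeal_natCast_iff h.hM] at h1
  omega

theorem Hyp.nonPr_nonempty (h : Hyp M u k) : (nonPr M G).Nonempty := by
  by_contra he
  rw [Finset.not_nonempty_iff_eq_empty] at he
  exact h.odd_nonPr (by rw [he]; simp)

/-- The squared degrees of the block sum to `k` times the nonprincipal degree sum. -/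
theorem Hyp.sum_sq_eq (h : Hyp M u k) :
    ∑ χ ∈ pBlock M G, (χ : G → ℂ) 1 ^ 2 = k * ∑ χ ∈ nonPr M G, (χ : G → ℂ) 1 := by
  have h0 := orth_one h.hM h.dvd_orderOf_u
  rw [Finset.mul_sum, sum_B h.hM] at *
  rw [principalIrr_apply, principalIrr_apply, one_mul] at h0
  rw [principalIrr_apply, one_pow, ← sub_zero (1 + ∑ χ ∈ nonPr M G, (χ : G → ℂ) 1 ^ 2), ← h0,
    add_sub_add_left_eq_sub, ← Finset.sum_sub_distrib]
  refine Finset.sum_congr rfl fun χ hχ => ?_
  obtain ⟨hne, hχB⟩ := mem_nonPr.1 hχ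
  rw [← h.hk χ hχB hne]
  ring

/-- The idempotent coefficient at a regular element. -/
theorem Hyp.coeff_eq (h : Hyp M u k) {x : G} (hx : ¬ 2 ∣ orderOf x) :
    (Nat.card G : ℂ) * blockCoeff (principalBlock M G) x =
      k * ∑ χ ∈ nonPr M G, conj ((χ : G → ℂ) x) := by
  have h0 := block_orth_swap h.hM (isPBlock_B (M := M) (G := G)) x u hx h.dvd_orderOf_u
  rw [finsum_principal] at h0
  rw [blockCoeff, finsum_principal, ← mul_assoc,
    mul_inv_cancel₀ (by exact_mod_cast Nat.card_pos.ne'), one_mul, Finset.mul_sum]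
  rw [sum_B h.hM] at h0 ⊢
  simp only [principalIrr_apply, map_one, one_mul] at h0 ⊢
  rw [← sub_zero (1 + ∑ χ ∈ nonPr M G, (χ : G → ℂ) 1 * conj ((χ : G → ℂ) x)), ← h0,
    add_sub_add_left_eq_sub, ← Finset.sum_sub_distrib]
  refine Finset.sum_congr rfl fun χ hχ => ?_
  obtain ⟨hne, hχB⟩ := mem_nonPr.1 hχ
  rw [← h.hk χ hχB hne]
  ring

/-- The constant is the order of a Sylow 2-subgroup. -/
theorem Hyp.k_eq (h : Hyp M u k) : k = (tp G : ℂ) := by
  cases nonempty_fintype G
  choose z hz using fun χ : IrrCharacter G =>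
    exists_int_classInner_tilde (p := 2) Nat.prime_two (principalIrr : IrrCharacter G) χ
  set Z : ℤ := ∑ χ ∈ nonPr M G, z χ with hZ
  have hkZ : k * (Z : ℂ) = (tp G : ℂ) := by
    rw [hZ, Int.cast_sum]
    simp only [← hz, classInner, Finset.mul_sum]
    rw [Finset.sum_comm]
    have e : ∀ g : G, ∑ χ ∈ nonPr M G, k * ((Nat.card G : ℂ)⁻¹ *
        (tilde 2 ((principalIrr : IrrCharacter G) : G → ℂ) g * conj ((χ : G → ℂ) g))) =
        (tp G : ℂ) * blockCoeff (principalBlock M G) g := by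
      intro g
      by_cases hg : 2 ∣ orderOf g
      · simp [tilde, hg, blockCoeff_singular h.hM isPBlock_B g hg]
      · simp only [tilde, if_neg hg, principalIrr_apply, mul_one]
        rw [Finset.sum_congr rfl (g := fun χ : IrrCharacter G => ((Nat.card G : ℂ)⁻¹ * (tp G : ℂ)) *
          (k * conj ((χ : G → ℂ) g))) (fun χ _ => by rw [tp]; push_cast; ring),
          ← Finset.mul_sum, ← Finset.mul_sum, ← h.coeff_eq hg]
        have : (Nat.card G : ℂ) ≠ 0 := by exact_mod_cast Nat.card_pos.ne'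
        field_simp
    rw [Finset.sum_congr rfl fun g _ => e g, ← Finset.mul_sum,
      CfsgLib.Blk83.sum_blockCoeff_principal h.hM, mul_one]
  have htp : (tp G : ℂ) ≠ 0 := by simp [tp]
  have hZ0 : Z ≠ 0 := fun e => htp (by rw [← hkZ, e]; simp)
  obtain ⟨χ, hχ⟩ := h.nonPr_nonempty
  obtain ⟨hne, hχB⟩ := mem_nonPr.1 hχ
  have hint : IsIntegral ℤ k := h.hk χ hχB hne ▸ (isIntegral_char χ 1).sub (isIntegral_char χ u)
  have hkq : k = (((tp G : ℚ) / (Z : ℚ) : ℚ) : ℂ) := by
    push_cast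
    rw [eq_div_iff (by exact_mod_cast hZ0), hkZ]
  rw [hkq] at hint
  obtain ⟨m, hm⟩ := exists_int_of_isIntegral_ratCast hint
  have hkm : k = (m : ℂ) := by rw [hkq, ← hm, Rat.cast_intCast]
  set A := ∑ χ ∈ pBlock M G, charDegree (χ : G → ℂ) ^ 2 with hA
  set D := ∑ χ ∈ nonPr M G, charDegree (χ : G → ℂ) with hD
  have hAD : (A : ℤ) = m * D := by
    have h1 := h.sum_sq_eq
    rw [hkm] at h1
    simp only [← deg_cast, ← Nat.cast_pow, ← Nat.cast_sum] at h1
    exact_mod_cast h1
  have hA0 : 0 < A := Finset.sum_pos (fun χ _ => pow_pos (deg_pos χ) 2)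
    ⟨_, principal_mem h.hM⟩
  have hDodd : ¬ 2 ∣ D := h.odd_nonPr
  have hD0 : D ≠ 0 := fun e => hDodd (e ▸ dvd_zero 2)
  obtain ⟨n, rfl⟩ := Int.eq_ofNat_of_zero_le (show 0 ≤ m by
    by_contra hneg
    have : (A : ℤ) ≤ 0 := hAD ▸ mul_nonpos_of_nonpos_of_nonneg (by omega) (by omega)
    omega)
  have hAn : A = n * D := by exact_mod_cast hAD
  have hn0 : n ≠ 0 := by rintro rfl; simp at hAn; omega
  have hfac : A.factorization 2 = (Nat.card G).factorization 2 := by
    have h1 := factorization_sum_sq h.hM (isPBlock_B (M := M) (G := G))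
    rw [finsum_principal] at h1
    rw [hA, h1, Nat.add_eq_left]
    have hp0 : (principalIrr : IrrCharacter G) ∈ principalBlock M G := sameBlock_refl h.hM _
    refine Nat.le_zero.1 ((minExp_le (p := 2) hp0).trans (le_of_eq ?_))
    simp [charDegree]
  have hnd : n ∣ tp G := by
    have h1 : k * (Z : ℂ) = (((n : ℤ) * Z : ℤ) : ℂ) := by rw [hkm]; push_cast; ring
    rw [hkZ] at h1
    have h2 : ((tp G : ℕ) : ℤ) = (n : ℤ) * Z := by exact_mod_cast h1
    exact Int.natCast_dvd_natCast.1 ⟨Z, h2⟩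
  obtain ⟨i, -, rfl⟩ := (Nat.dvd_prime_pow Nat.prime_two).1 hnd
  rw [hAn, Nat.factorization_mul hn0 hD0, Finsupp.add_apply,
    Nat.factorization_eq_zero_of_not_dvd hDodd, add_zero, Nat.prime_two.factorization_pow,
    Finsupp.single_eq_same] at hfac
  rw [hkm, tp, ← hfac]
  simp

theorem Hyp.two_le_tp (h : Hyp M u k) : 2 ≤ tp G := by
  have : 1 ≤ (Nat.card G).factorization 2 :=
    Nat.prime_two.factorization_pos_of_dvd Nat.card_pos.ne' h.two_dvd_card
  exact le_trans (le_of_eq (pow_one 2).symm) (Nat.pow_le_pow_right two_pos this)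

/-- A sum over a group killed by a nontrivial homomorphism to signs. -/
theorem mult_eq {P : Subgroup G} [Fintype P] (f : P →* ℂˣ) (hf : f ≠ 1) (hsq : ∀ a : P, a ^ 2 = 1)
    (χ : G → ℂ) (v : ℂ) (hv : ∀ a : P, a ≠ 1 → χ a = v) :
    (Nat.card P : ℂ)⁻¹ * ∑ a : P, χ a * conj (f a : ℂ) = (χ 1 - v) / Nat.card P := by
  rw [Finset.sum_congr rfl (g := fun a : P => (if a = 1 then χ 1 - v else 0) + v * (f a : ℂ))
    (fun a _ => by
      rw [conj_val hsq]
      by_cases ha : a = 1
      · subst ha; simp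
      · rw [if_neg ha, hv a ha, zero_add]),
    Finset.sum_add_distrib, Finset.sum_ite_eq', if_pos (Finset.mem_univ _), ← Finset.mul_sum,
    sum_hom, if_neg hf, mul_zero, add_zero]
  ring

theorem Hyp.value_aux (h : Hyp M u k) {s : G} (hs : orderOf s = 2) (χ : IrrCharacter G) :
    ∃ c : ℕ, (χ : G → ℂ) 1 - (χ : G → ℂ) s = (tp G : ℂ) * c := by
  obtain ⟨P, hP⟩ := (IsPGroup.of_card (n := 1)
    (show Nat.card (Subgroup.zpowers s) = 2 ^ 1 by rw [Nat.card_zpowers, hs, pow_one])).exists_le_sylow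
  have hsP : s ∈ (P : Subgroup G) := hP (Subgroup.mem_zpowers s)
  cases nonempty_fintype G
  obtain ⟨f, hf⟩ := exists_hom_ne (A := (P : Subgroup G))
    (fun a b => Subtype.ext (h.comm P.isPGroup' a.2 b.2)) (a := ⟨s, hsP⟩)
    (fun e => by simp [show s = 1 from congrArg Subtype.val e] at hs)
  obtain ⟨c, hc⟩ := exists_nat_mult (IsIrrCharacter.isCharacter χ.2) (P : Subgroup G) f
  refine ⟨c, ?_⟩
  rw [mult_eq f (fun e => hf (by rw [e]; rfl))
    (fun a => Subtype.ext (h.sq_eq_one P.isPGroup' a.2)) (χ : G → ℂ) ((χ : G → ℂ) s)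
    (fun a ha => char_conj_invariant χ _ _ (h.invol_conj (orderOf_eq_two
      (h.sq_eq_one P.isPGroup' a.2) fun e => ha (Subtype.ext e)) hs)),
    ← tp_eq_card, div_eq_iff (by simp [tp])] at hc
  rw [hc, mul_comm]

/-- No nonprincipal character of the block has an involution in its kernel. -/
theorem Hyp.not_mem_ker (h : Hyp M u k) {χ : IrrCharacter G} (hχ : χ ∈ nonPr M G) {s : G}
    (hs : orderOf s = 2) : s ∉ charKer χ := by
  intro hsK
  obtain ⟨hne, hχB⟩ := mem_nonPr.1 hχ
  cases nonempty_fintype G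
  set K := charKer χ with hK
  obtain ⟨P⟩ : Nonempty (Sylow 2 G) := inferInstance
  have hPK : (P : Subgroup G) ≤ K := by
    intro a ha
    by_cases ha1 : a = 1
    · subst ha1; exact K.one_mem
    · rw [mem_charKer, char_conj_invariant χ a s (h.invol_conj
        (orderOf_eq_two (h.sq_eq_one P.isPGroup' ha) ha1) hs)]
      exact hsK
  have hidx : ¬ 2 ∣ K.index := fun hd =>
    P.not_dvd_index (hd.trans (Subgroup.index_dvd_of_le hPK))
  have hodd : ¬ 2 ∣ Nat.card (G ⧸ K) := hidx
  -- the regular elements of the centraliser of `P`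
  set C := Subgroup.centralizer ((P : Subgroup G) : Set G) with hC
  have hPC : (P : Subgroup G) ≤ C := fun a ha => Subgroup.mem_centralizer_iff.2 fun b hb =>
    h.comm P.isPGroup' hb ha
  obtain ⟨L0, hL0n, hL0, j, hj⟩ := hasCompl_of_normalizer (P.subtype hPC) (fun n _ =>
    Subgroup.mem_centralizer_iff.2 fun b hb => Subtype.ext
      (Subgroup.mem_centralizer_iff.1 n.2 b hb))
  haveI := hL0n
  set L := L0.map C.subtype with hL
  have hLmem : ∀ g : G, g ∈ L ↔ ¬ 2 ∣ orderOf g ∧ g ∈ C := by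
    intro g
    rw [hL, Subgroup.mem_map]
    constructor
    · rintro ⟨y, hy, rfl⟩
      exact ⟨by rw [Subgroup.coe_subtype, Subgroup.orderOf_coe]
                exact (regular_iff_mem L0 hL0 hj y).2 hy, y.2⟩
    · rintro ⟨hg, hgC⟩
      exact ⟨⟨g, hgC⟩, (regular_iff_mem L0 hL0 hj _).1 (by rwa [Subgroup.orderOf_mk]), rfl⟩
  have hLK : L ≤ K := by
    obtain ⟨d, ρ, hirr, hρ⟩ := χ.2
    haveI := hirr
    haveI := Fintype.ofFinite L
    set E : Module.End ℂ (Fin d → ℂ) := ∑ l : L, ρ (l : G) with hE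
    have hEg : ∀ g : G, E * ρ g = ρ g * E := by
      haveI : Fact (Nat.Prime 2) := ⟨Nat.prime_two⟩
      have htop := Sylow.normalizer_sup_eq_top' P hPK
      intro g
      obtain ⟨n, hn, c, hc, rfl⟩ :=
        Subgroup.mem_sup_of_normal_right.1 (htop ▸ Subgroup.mem_top g)
      have hc1 : ρ c = 1 := by
        rw [mem_charKer, ← hρ, Representation.char_one, character_eq_degree_iff] at hc
        exact hc
      rw [map_mul, hc1, mul_one]
      have hnL : ∀ l ∈ L, n⁻¹ * l * n ∈ L := by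
        intro l hl
        rw [hLmem] at hl ⊢
        refine ⟨?_, ?_⟩
        · rw [show n⁻¹ * l * n = MulAut.conj n⁻¹ l by simp, MulEquiv.orderOf_eq]
          exact hl.1
        · rw [Subgroup.mem_centralizer_iff]
          intro b hb
          have hb' : n * b * n⁻¹ ∈ (P : Subgroup G) :=
            (Subgroup.mem_normalizer_iff.1 hn b).1 hb
          have := Subgroup.mem_centralizer_iff.1 hl.2 _ hb'
          calc b * (n⁻¹ * l * n) = n⁻¹ * ((n * b * n⁻¹) * l) * n := by group
            _ = n⁻¹ * (l * (n * b * n⁻¹)) * n := by rw [this]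
            _ = n⁻¹ * l * n * b := by group
      have hnN : n⁻¹ ∈ Subgroup.normalizer ((P : Subgroup G) : Set G) := inv_mem hn
      have hnL' : ∀ l ∈ L, n * l * n⁻¹ ∈ L := by
        intro l hl
        rw [hLmem] at hl ⊢
        refine ⟨?_, ?_⟩
        · rw [show n * l * n⁻¹ = MulAut.conj n l by simp, MulEquiv.orderOf_eq]
          exact hl.1
        · rw [Subgroup.mem_centralizer_iff]
          intro b hb
          have hb' : n⁻¹ * b * n ∈ (P : Subgroup G) :=
            (Subgroup.mem_normalizer_iff''.1 hn b).1 hb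
          have := Subgroup.mem_centralizer_iff.1 hl.2 _ hb'
          calc b * (n * l * n⁻¹) = n * ((n⁻¹ * b * n) * l) * n⁻¹ := by group
            _ = n * (l * (n⁻¹ * b * n)) * n⁻¹ := by rw [this]
            _ = n * l * n⁻¹ * b := by group
      rw [hE, Finset.sum_mul, Finset.mul_sum]
      refine Fintype.sum_equiv
        { toFun := fun l : L => (⟨n⁻¹ * l * n, hnL l l.2⟩ : L)
          invFun := fun l : L => (⟨n * l * n⁻¹, hnL' l l.2⟩ : L)
          left_inv := fun l => Subtype.ext (by simp [mul_assoc])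
          right_inv := fun l => Subtype.ext (by simp [mul_assoc]) } _ _ fun l => ?_
      show ρ (l : G) * ρ n = ρ n * ρ (n⁻¹ * l * n)
      rw [← map_mul, ← map_mul]
      exact congrArg ρ (by group)
    obtain ⟨a, ha⟩ := exists_scalar_of_commute ρ E hEg
    have ha0 : a ≠ 0 := by
      intro ha0
      have hsum : ∑ l : L, (χ : G → ℂ) l = 0 := by
        have h1 := congrArg (LinearMap.trace ℂ _) ha
        rw [ha0, zero_smul, map_zero, hE, map_sum] at h1
        rw [← hρ]
        exact h1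
      have hχP : χ ∈ principalBlock M G := mem_pBlock.1 hχB
      rw [mem_principal_iff h.hM] at hχP
      have hd : ¬ 2 ∣ charDegree (χ : G → ℂ) := by
        obtain ⟨η, hη, heq⟩ := CfsgLib.CharTwist.exists_irr_quotient χ.2 K (fun n hn => hn)
        intro hd
        refine hodd (dvd_trans ?_ (deg_dvd_card (⟨η, hη⟩ : IrrCharacter (G ⧸ K))))
        rw [show charDegree η = charDegree (χ : G → ℂ) by
          simp only [charDegree, heq, Function.comp_apply, map_one]]
        exact hd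
      apply hχP
      rw [div_eq_mul_inv, ← deg_cast]
      refine memIdeal_mul_right h.hM ?_ (memRing_inv_natCast h.hM hd)
      have h2 := regSum_sub_centralized h.hM (P : Subgroup G) P.isPGroup' (χ : G → ℂ)
        (memRing_char h.hM χ)
        (fun v _ x => (char_conj_invariant χ x (v * x * v⁻¹) (isConj_iff.2 ⟨v, rfl⟩)).symm)
      rwa [Finset.sum_subtype _ (p := fun g => g ∈ L) (fun g => by simp [hLmem, hC]), hsum,
        sub_zero] at h2
    intro l hl
    have h1 : ρ l * E = E := by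
      rw [hE, Finset.mul_sum]
      exact Fintype.sum_equiv (Equiv.mulLeft ⟨l, hl⟩) _ _ fun b => by simp [map_mul]
    rw [ha, mul_smul_one] at h1
    have h2 : ρ l = 1 := smul_right_injective _ ha0 h1
    rw [mem_charKer, ← hρ, Representation.char_one, character_eq_degree_iff, h2]
    rfl
  -- every character of `G / K` lies in the block
  haveI := Fintype.ofFinite (G ⧸ K)
  have hmem : ∀ η : IrrCharacter (G ⧸ K), η ≠ principalIrr →
      (η : G ⧸ K → ℂ) 1 - (η : G ⧸ K → ℂ) (u : G ⧸ K) = k := by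
    intro η hη
    have hd : ¬ 2 ∣ charDegree ((CfsgLib.Blk83.inflIrr K η : IrrCharacter G) : G → ℂ) :=
      fun hd => hodd (dvd_trans hd (by
        have := deg_dvd_card η
        simpa [charDegree] using this))
    have hB : CfsgLib.Blk83.inflIrr K η ∈ principalBlock M G := by
      refine mem_principal_of_centralized h.hM (P : Subgroup G) P.isPGroup' _ hd ?_
      rw [Finset.sum_congr rfl (g := fun _ => (η : G ⧸ K → ℂ) 1) (fun x hx => by
        rw [CfsgLib.Blk83.inflIrr_apply, (QuotientGroup.eq_one_iff x).2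
          (hLK ((hLmem x).2 (Finset.mem_filter.1 hx).2))]),
        Finset.sum_const, nsmul_eq_mul, ← deg_cast, ← Nat.cast_mul]
      refine not_memIdeal_natCast h.hM fun hdd => (Nat.prime_two.dvd_mul.1 hdd).elim ?_ ?_
      · haveI := Fintype.ofFinite L
        rw [show (Finset.univ.filter fun x : G => ¬ 2 ∣ orderOf x ∧ x ∈
          Subgroup.centralizer ((P : Subgroup G) : Set G)).card = Nat.card L by
            rw [Nat.card_eq_fintype_card]
            exact (Fintype.card_of_subtype _ fun g => by simp [hLmem, hC]).symm]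
        intro h2
        rw [hL, Subgroup.card_map_of_injective C.subtype_injective] at h2
        exact hL0 h2
      · intro h2
        exact hd (by simpa [charDegree] using h2)
    have h1 := h.hk _ (mem_pBlock.2 hB) (fun e => hη (Subtype.ext (funext fun x => by
      obtain ⟨g, rfl⟩ := QuotientGroup.mk_surjective x
      simpa using congrArg (fun t : IrrCharacter G => (t : G → ℂ) g) e)))
    simpa using h1
  have hsum : ∑ η : IrrCharacter (G ⧸ K),
      ((η : G ⧸ K → ℂ) 1 * ((η : G ⧸ K → ℂ) 1 - (η : G ⧸ K → ℂ) (u : G ⧸ K))) =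
      k * ∑ η ∈ Finset.univ.erase (principalIrr : IrrCharacter (G ⧸ K)), (η : G ⧸ K → ℂ) 1 := by
    rw [← Finset.add_sum_erase _ _ (Finset.mem_univ (principalIrr : IrrCharacter (G ⧸ K))),
      principalIrr_apply, principalIrr_apply, sub_self, mul_zero, zero_add, Finset.mul_sum]
    refine Finset.sum_congr rfl fun η hη => ?_
    rw [hmem η (Finset.ne_of_mem_erase hη)]
    ring
  simp only [mul_sub, Finset.sum_sub_distrib] at hsum
  rw [sum_apply_one_mul, sum_apply_one_mul, if_pos rfl, h.k_eq] at hsum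
  simp only [← deg_cast, ← Nat.cast_sum, ← Nat.cast_mul] at hsum
  split_ifs at hsum
  · -- `u` in the kernel
    rw [sub_self, eq_comm, Nat.cast_eq_zero, mul_eq_zero] at hsum
    obtain ⟨η, hη, heq⟩ := CfsgLib.CharTwist.exists_irr_quotient χ.2 K (fun n hn => hn)
    have hη1 : (⟨η, hη⟩ : IrrCharacter (G ⧸ K)) ≠ principalIrr := fun e => hne (Subtype.ext (by
      rw [heq, show η = ((principalIrr : IrrCharacter (G ⧸ K)) : G ⧸ K → ℂ) from
        congrArg Subtype.val e]
      rfl))
    rcases hsum with h1 | h1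
    · exact absurd h1 (by simp [tp])
    · exact (deg_pos (⟨η, hη⟩ : IrrCharacter (G ⧸ K))).ne'
        (Finset.sum_eq_zero_iff.1 h1 _ (Finset.mem_erase.2 ⟨hη1, Finset.mem_univ _⟩))
  · rw [sub_zero, Nat.cast_inj] at hsum
    apply hodd
    rw [hsum]
    exact dvd_mul_of_dvd_left (dvd_pow_self 2 (by
      have := h.two_le_tp; rw [tp] at this; intro e; rw [e] at this; omega)) _

/-- Every nonprincipal character of the block takes the value `χ 1 - q` at involutions. -/
theorem Hyp.value (h : Hyp M u k) {χ : IrrCharacter G} (hχ : χ ∈ nonPr M G) {i : G}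
    (hi : orderOf i = 2) : (χ : G → ℂ) i = (χ : G → ℂ) 1 - (tp G : ℂ) := by
  choose c hc using h.value_aux hi
  have h0 := orth_one h.hM (g := i) (hi ▸ dvd_rfl)
  have hA := h.sum_sq_eq
  rw [sum_B h.hM, principalIrr_apply, principalIrr_apply, one_mul] at h0
  rw [sum_B h.hM, principalIrr_apply, one_pow, h.k_eq] at hA
  have h1 : (tp G : ℂ) * ∑ χ ∈ nonPr M G, (χ : G → ℂ) 1 * c χ =
      (tp G : ℂ) * ∑ χ ∈ nonPr M G, (χ : G → ℂ) 1 := by
    rw [← hA, ← sub_zero (1 + ∑ χ ∈ nonPr M G, (χ : G → ℂ) 1 ^ 2), ← h0, add_sub_add_left_eq_sub,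
      ← Finset.sum_sub_distrib, Finset.mul_sum]
    refine Finset.sum_congr rfl fun ψ _ => ?_
    rw [sq, ← mul_sub, hc ψ]
    ring
  have h2 := mul_left_cancel₀ (show (tp G : ℂ) ≠ 0 by simp [tp]) h1
  simp only [← deg_cast, ← Nat.cast_mul, ← Nat.cast_sum, Nat.cast_inj] at h2
  have hc1 : ∀ ψ ∈ nonPr M G, 1 ≤ c ψ := fun ψ hψ => Nat.one_le_iff_ne_zero.2 fun e =>
    h.not_mem_ker hψ hi (mem_charKer.2 (by
      have := hc ψ
      rw [e, Nat.cast_zero, mul_zero, sub_eq_zero] at this
      exact this.symm))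
  have hcχ : c χ = 1 := by
    refine le_antisymm (le_of_not_gt fun hlt => Nat.ne_of_gt ?_ h2) (hc1 χ hχ)
    refine Finset.sum_lt_sum (fun ψ hψ => Nat.le_mul_of_pos_right _ (hc1 ψ hψ)) ⟨χ, hχ, ?_⟩
    exact lt_mul_of_one_lt_right (deg_pos χ) hlt
  have := hc χ
  rw [hcχ, Nat.cast_one, mul_one] at this
  rw [← this]
  ring

/-- The restriction to a Sylow subgroup contains every nontrivial linear character once. -/
theorem Hyp.mult_one (h : Hyp M u k) {χ : IrrCharacter G} (hχ : χ ∈ nonPr M G) (P : Sylow 2 G)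
    [Fintype (P : Subgroup G)] (f : (P : Subgroup G) →* ℂˣ) (hf : f ≠ 1) :
    (Nat.card (P : Subgroup G) : ℂ)⁻¹ * ∑ a : (P : Subgroup G), (χ : G → ℂ) a * conj (f a : ℂ) =
      (1 : ℕ) := by
  rw [mult_eq f hf (fun a => Subtype.ext (h.sq_eq_one P.isPGroup' a.2)) (χ : G → ℂ)
    ((χ : G → ℂ) 1 - (tp G : ℂ)) (fun a ha => h.value hχ (orderOf_eq_two
      (h.sq_eq_one P.isPGroup' a.2) fun e => ha (Subtype.ext e))),
    sub_sub_cancel, tp_eq_card P, div_self (Nat.cast_ne_zero.2 Nat.card_pos.ne'), Nat.cast_one]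

/-- A faithful character in the block, equal to `-1` at involutions. -/
theorem Hyp.exists_small (h : Hyp M u k) :
    ∃ χ ∈ nonPr M G, (χ : G → ℂ) 1 = (tp G : ℂ) - 1 ∧
      (∀ i : G, orderOf i = 2 → (χ : G → ℂ) i = -1) ∧ charKer χ = ⊥ := by
  cases nonempty_fintype G
  obtain ⟨z, hz⟩ := h.exists_invol
  have h0 := orth_one h.hM (g := z) (hz ▸ dvd_rfl)
  rw [sum_B h.hM, principalIrr_apply, principalIrr_apply, one_mul,
    Finset.sum_congr rfl (g := fun χ : IrrCharacter G =>
      ((charDegree (χ : G → ℂ) ^ 2 : ℕ) : ℂ) -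
        ((charDegree (χ : G → ℂ) * tp G : ℕ) : ℂ)) (fun χ hχ => by
        rw [h.value hχ hz, Nat.cast_pow, Nat.cast_mul, deg_cast]; ring),
    Finset.sum_sub_distrib, ← Nat.cast_sum, ← Nat.cast_sum, add_sub_assoc', sub_eq_zero,
    ← Nat.cast_one, ← Nat.cast_add, Nat.cast_inj] at h0
  obtain ⟨χ, hχ, hlt⟩ : ∃ χ ∈ nonPr M G, charDegree (χ : G → ℂ) < tp G := by
    by_contra hcon
    push Not at hcon
    have := Finset.sum_le_sum (s := nonPr M G)
      (f := fun χ : IrrCharacter G => charDegree (χ : G → ℂ) * tp G)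
      (g := fun χ : IrrCharacter G => charDegree (χ : G → ℂ) ^ 2)
      (fun ψ hψ => by rw [sq]; exact Nat.mul_le_mul_left _ (hcon ψ hψ))
    omega
  obtain ⟨P⟩ : Nonempty (Sylow 2 G) := inferInstance
  obtain ⟨n, hn⟩ := exists_nat_mult (IsIrrCharacter.isCharacter χ.2) (P : Subgroup G) 1
  have hn' : (n : ℂ) + tp G = (χ : G → ℂ) 1 + 1 := by
    have hq : (tp G : ℂ) ≠ 0 := by simp [tp]
    rw [← hn, Finset.sum_congr rfl (g := fun a : (P : Subgroup G) =>
      (if a = 1 then (tp G : ℂ) else 0) + ((χ : G → ℂ) 1 - (tp G : ℂ))) (fun a _ => by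
        by_cases ha : a = 1
        · subst ha; simp
        · rw [if_neg ha, h.value hχ (orderOf_eq_two (h.sq_eq_one P.isPGroup' a.2)
            fun e => ha (Subtype.ext e))]
          simp),
      Finset.sum_add_distrib, Finset.sum_ite_eq', if_pos (Finset.mem_univ _), Finset.sum_const,
      Finset.card_univ, ← Nat.card_eq_fintype_card, ← tp_eq_card, nsmul_eq_mul]
    field_simp
    ring
  rw [← deg_cast, ← Nat.cast_add, ← Nat.cast_one, ← Nat.cast_add, Nat.cast_inj] at hn'
  have hd : charDegree (χ : G → ℂ) + 1 = tp G := by omega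
  have hd' : (χ : G → ℂ) 1 = (tp G : ℂ) - 1 := by rw [← deg_cast, ← hd]; push_cast; ring
  have hval : ∀ i : G, orderOf i = 2 → (χ : G → ℂ) i = -1 := fun i hi => by
    rw [h.value hχ hi, hd']; ring
  refine ⟨χ, hχ, hd', hval, le_bot_iff.1 (h.core ▸ le_oddCore_of_invol fun i hi hi2 => ?_)⟩
  rw [mem_charKer, hval i hi2, hd', eq_sub_iff_add_eq] at hi
  exact (show (tp G : ℂ) ≠ 0 by simp [tp]) (by rw [← hi]; ring)

/-- The idempotent coefficient is odd at regular elements centralising an involution. -/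
theorem Hyp.coeff_one (h : Hyp M u k) {x i : G} (hx : ¬ 2 ∣ orderOf x) (hi : orderOf i = 2)
    (hc : Commute i x) : MemLocalIdeal M (blockCoeff (principalBlock M G) x - 1) := by
  have hM := h.hM
  have hS : ∀ y : G, ¬ 2 ∣ orderOf y → Commute i y →
      MemLocalIdeal M (∑ χ ∈ pBlock M G, (χ : G → ℂ) y) := by
    intro y hy hcy
    have h1 : MemLocalIdeal M (∑ χ ∈ pBlock M G,
        (χ : G → ℂ) y * ((χ : G → ℂ) (i * y) - (χ : G → ℂ) y)) :=
      memIdeal_sum hM _ fun χ _ => memIdeal_mul_left hM (memRing_char hM χ y)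
        (char_mul_sub_memIdeal hM χ hcy (j := 1) (by rw [pow_one, ← hi, pow_orderOf_eq_one]) hy)
    have h2 := block_orthogonality hM (isPBlock_B (M := M) (G := G)) y (i * y)⁻¹ hy
      (by rw [orderOf_inv]; exact dvd_orderOf_mul_invol hcy hi hy)
    rw [finsum_principal] at h2
    simp only [char_inv, Complex.conj_conj] at h2
    simp only [mul_sub, Finset.sum_sub_distrib, h2, zero_sub] at h1
    have h3 : ∀ t : Finset (IrrCharacter G), MemLocalIdeal M ((∑ χ ∈ t, (χ : G → ℂ) y) *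
        (∑ χ ∈ t, (χ : G → ℂ) y) - ∑ χ ∈ t, (χ : G → ℂ) y * (χ : G → ℂ) y) := by
      intro t
      induction t using Finset.induction with
      | empty => simpa using memIdeal_zero hM
      | insert a t ha ih =>
        rw [Finset.sum_insert ha, Finset.sum_insert ha]
        have h4 : MemLocalIdeal M ((2 : ℕ) * ((a : G → ℂ) y * ∑ χ ∈ t, (χ : G → ℂ) y)) :=
          memIdeal_mul_right hM ((memIdeal_natCast_iff hM 2).2 dvd_rfl)
            (memRing_mul hM (memRing_char hM a y) (memRing_sum hM _ fun χ _ => memRing_char hM χ y))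
        convert memIdeal_add hM ih h4 using 1
        push_cast
        ring
    have h5 := memIdeal_add hM (h3 (pBlock M G)) (memIdeal_neg h1)
    rw [neg_neg, sub_add_cancel] at h5
    by_contra hns
    exact not_memIdeal_mul hM (memRing_sum hM _ fun χ _ => memRing_char hM χ y)
      (memRing_sum hM _ fun χ _ => memRing_char hM χ y) hns hns h5
  obtain ⟨m, hm⟩ : ∃ m, Nat.card G = tp G * m := Nat.ordProj_dvd _ 2
  have hmodd : ¬ 2 ∣ m := by
    intro hd
    refine Nat.not_dvd_ordCompl Nat.prime_two (Nat.card_pos (α := G)).ne' ?_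
    rwa [hm, show 2 ^ (tp G * m).factorization 2 = tp G by rw [← hm]; rfl,
      Nat.mul_div_cancel_left _ (by simp [tp])]
  have hm0 : (m : ℂ) ≠ 0 := by
    rw [Nat.cast_ne_zero]; rintro rfl; exact hmodd (dvd_zero 2)
  have h1 := h.coeff_eq hx
  rw [h.k_eq, hm, Nat.cast_mul, mul_assoc] at h1
  have h2 := mul_left_cancel₀ (show (tp G : ℂ) ≠ 0 by simp [tp]) h1
  have h3 : ∑ χ ∈ pBlock M G, (χ : G → ℂ) x⁻¹ =
      1 + ∑ χ ∈ nonPr M G, conj ((χ : G → ℂ) x) := by
    rw [sum_B hM, principalIrr_apply]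
    exact congrArg _ (Finset.sum_congr rfl fun χ _ => char_inv χ x)
  have h4 : MemLocalIdeal M ((m : ℂ) * (blockCoeff (principalBlock M G) x - 1)) := by
    have h5 := memIdeal_sub hM (hS x⁻¹ (by rwa [orderOf_inv]) hc.inv_right)
      ((memIdeal_natCast_iff hM (1 + m)).2 (by omega))
    convert h5 using 1
    rw [h3, mul_sub, h2]
    push_cast
    ring
  have h5 := memIdeal_mul_left hM (memRing_inv_natCast hM hmodd) h4
  rwa [← mul_assoc, inv_mul_cancel₀ hm0, one_mul] at h5

end CfsgLib.ConstBlock
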